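import Groth.Agent.CAlg9.CIT.Indep
import Groth.Agent.EGA4H10.CplQuot
import Groth.Agent.CAlg1.Complete
import Groth.Agent.S0548
import Groth.Prelude.Def_Pi1

/-!
Complete intersections: criteria by presentations of the completion or of the ring itself.
-/

set_option autoImplicit false
universe u

open IsLocalRing

namespace Groth.Agent.CAlg9.CIT

local notation "Cpl" A => AdicCompletion (maximalIdeal A) A

theorem noetherian_cpl (A : Type u) [CommRing A] [IsLocalRing A] [IsNoetherianRing A] :
    IsNoetherianRing (Cpl A) := CAlg1.isNoetherianRing_adicCompletion _ (IsNoetherian.noetherian _)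

/-- For a presentation `Â = B/I`: `e − μ(I) ≤ d`, and equality means complete intersection. -/
theorem presentation_le_and_iff (A : Type u) [CommRing A] [IsLocalRing A] [IsNoetherianRing A]
    (B : Type u) [CommRing B] [IsRegularLocalRing B] (I : Ideal B)
    (hpres : Nonempty ((Cpl A) ≃+* B ⧸ I)) (d e : ℕ) (hd : ringKrullDim A = d) (he : ringKrullDim B = e) :
    e ≤ d + I.spanFinrank ∧ (d + I.spanFinrank = e ↔ Pi1.IsCompleteIntersection A) := by
  obtain ⟨φ⟩ := hpres
  have := noetherian_cpl A
  have hne : I ≠ ⊤ := fun h => by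
    have : Subsingleton (B ⧸ I) := Ideal.Quotient.subsingleton_iff.2 h
    exact not_subsingleton (Cpl A) φ.toEquiv.subsingleton
  have hI := le_maximalIdeal hne
  have hdim : ringKrullDim (B ⧸ I) = d := by
    rw [← ringKrullDim_eq_of_ringEquiv φ, CAlg1.ringKrullDim_adicCompletion A, hd]
  refine ⟨dim_le_add I hI d e hdim he, fun h => ?_, ?_⟩
  · obtain ⟨rs, hrs, hspan⟩ := (isRegularIdeal_iff_dim I hI d e hdim he).2 h
    exact ⟨B, inferInstance, inferInstance, rs, fun r hr => hI (hspan ▸ Ideal.subset_span hr), hrs,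
      ⟨φ.trans (Ideal.quotEquivOfEq hspan.symm)⟩⟩
  · rintro ⟨B', _, _, rs, hrm, hrs, ⟨ψ⟩⟩
    obtain ⟨e', he'⟩ := exists_dim_eq B'
    have hI' : Ideal.ofList rs ≤ maximalIdeal B' := Ideal.span_le.2 hrm
    have hdim' : ringKrullDim (B' ⧸ Ideal.ofList rs) = d := by
      rw [← ringKrullDim_eq_of_ringEquiv ψ, CAlg1.ringKrullDim_adicCompletion A, hd]
    have h1 := (isRegularIdeal_iff_dim _ hI' d e' hdim' he').1 ⟨rs, hrs, rfl⟩
    let f : B →+* Cpl A := φ.symm.toRingHom.comp (Ideal.Quotient.mk I)
    let f' : B' →+* Cpl A := ψ.symm.toRingHom.comp (Ideal.Quotient.mk (Ideal.ofList rs))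
    have h2 := delta_eq B B' f (φ.symm.surjective.comp Ideal.Quotient.mk_surjective) f'
      (ψ.symm.surjective.comp Ideal.Quotient.mk_surjective) e e' he he'
    have k1 : RingHom.ker f = I := by
      ext x
      simp [f, RingHom.mem_ker, Ideal.Quotient.eq_zero_iff_mem]
    have k2 : RingHom.ker f' = Ideal.ofList rs := by
      ext x
      simp [f', RingHom.mem_ker, Ideal.Quotient.eq_zero_iff_mem]
    rw [k1, k2] at h2
    omega

theorem cpl_map_le_and_ge {B : Type u} [CommRing B] [IsLocalRing B] [IsNoetherianRing B] (I : Ideal B) :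
    (I.map (algebraMap B (Cpl B))).spanFinrank = I.spanFinrank := by
  classical
  have := noetherian_cpl B
  refine le_antisymm (Ideal.spanFinrank_map_le_of_fg _ (IsNoetherian.noetherian I)) ?_
  obtain ⟨s, hs, hsp⟩ := (IsNoetherian.noetherian I).exists_span_finset_card_eq_spanFinrank
  have hm : Module.FaithfullyFlat B (Cpl B) := by
    have : IsLocalHom (algebraMap B (Cpl B)) := inferInstance
    exact Module.FaithfullyFlat.of_flat_of_isLocalHom
  -- a minimal generating subset of the image
  let g : Fin s.card → (Cpl B) := fun i => algebraMap B _ (s.equivFin.symm i).1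
  have hg : Ideal.span (Set.range g) = I.map (algebraMap B (Cpl B)) := by
    rw [← hsp, Ideal.map_span]
    congr 1
    ext y
    exact ⟨fun ⟨i, hi⟩ => ⟨_, (s.equivFin.symm i).2, hi⟩,
      fun ⟨x, hx, hxy⟩ => ⟨s.equivFin ⟨x, hx⟩, by simp [g, hxy]⟩⟩
  by_contra hlt
  rw [not_le, ← hs] at hlt
  -- some coefficient of a relation modulo `m` is a unit
  have hrel : ∃ i : Fin s.card, g i ∈ Ideal.span (g '' {l | l ≠ i}) := by
    obtain ⟨t, ht, htsp⟩ := (IsNoetherian.noetherian (I.map (algebraMap B (Cpl B)))).exists_span_finset_card_eq_spanFinrank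
    by_contra hno
    push Not at hno
    have hmin : ∀ c : Fin s.card → (Cpl B), ∑ i, c i * g i ∈ maximalIdeal (Cpl B) * I.map (algebraMap B (Cpl B)) →
        ∀ i, c i ∈ maximalIdeal (Cpl B) := fun c hc i => by
      by_contra hu
      refine hno i ?_
      let G := Ideal.span (g '' {l | l ≠ i})
      have h1 : c i * g i ∈ G ⊔ maximalIdeal (Cpl B) • I.map (algebraMap B (Cpl B)) := by
        rw [show c i * g i = ∑ l, c l * g l - ∑ l ∈ Finset.univ.erase i, c l * g l by
          rw [← Finset.add_sum_erase _ _ (Finset.mem_univ i)]; ring]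
        exact sub_mem (Submodule.mem_sup_right hc) (Submodule.mem_sup_left
          (sum_mem fun l hl => G.mul_mem_left _ (Ideal.subset_span ⟨l, (Finset.mem_erase.1 hl).1, rfl⟩)))
      have h1' := (Ideal.unit_mul_mem_iff_mem _ (notMem_maximalIdeal.1 hu)).1 h1
      have hle : I.map (algebraMap B (Cpl B)) ≤ G ⊔ maximalIdeal (Cpl B) • I.map (algebraMap B (Cpl B)) := by
        conv_lhs => rw [← hg]
        rw [Ideal.span_le]
        rintro _ ⟨l, rfl⟩
        by_cases hl : l = i
        · exact hl ▸ h1'
        · exact Submodule.mem_sup_left (Ideal.subset_span ⟨l, hl, rfl⟩)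
      exact Submodule.le_of_le_smul_of_le_jacobson_bot (IsNoetherian.noetherian _)
        (maximalIdeal_le_jacobson ⊥) hle (hg ▸ Ideal.subset_span ⟨i, rfl⟩)
    obtain ⟨r, h, hh, hspan, hr⟩ := RegSeq.extend_minimal (I.map (algebraMap B (Cpl B))) ⊥ bot_le g
      (fun i => hg ▸ Ideal.subset_span ⟨i, rfl⟩) (le_sup_of_le_right hg.ge) hmin
    omega
  obtain ⟨i, hi⟩ := hrel
  have himg : Ideal.span (g '' {l | l ≠ i}) =
      (Ideal.span ((fun l => (s.equivFin.symm l).1) '' {l | l ≠ i})).map (algebraMap B (Cpl B)) := by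
    rw [Ideal.map_span, ← Set.image_comp]
    rfl
  rw [himg, ← Ideal.mem_comap, Ideal.comap_map_eq_self_of_faithfullyFlat] at hi
  let s' := (Finset.univ.erase i).image fun l => (s.equivFin.symm l).1
  have hsp' : Submodule.span B (s' : Set B) = I := by
    refine le_antisymm (Submodule.span_le.2 ?_) ?_
    · intro x hx
      obtain ⟨l, -, rfl⟩ := Finset.mem_image.1 hx
      exact hsp ▸ Submodule.subset_span (s.equivFin.symm l).2
    · rw [← hsp, Submodule.span_le]
      intro x hx
      by_cases hxi : s.equivFin ⟨x, hx⟩ = i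
      · subst hxi
        refine Submodule.span_mono ?_ (by simpa using hi)
        rintro _ ⟨l, hl, rfl⟩
        exact Finset.mem_image.2 ⟨l, Finset.mem_erase.2 ⟨hl, Finset.mem_univ _⟩, rfl⟩
      · exact Submodule.subset_span (Finset.mem_image.2 ⟨_, Finset.mem_erase.2 ⟨hxi, Finset.mem_univ _⟩, by simp⟩)
  have h3 := Submodule.spanFinrank_span_le_ncard_of_finite (R := B) s'.finite_toSet
  rw [hsp', Set.ncard_coe_finset, ← hs] at h3
  have h4 : s'.card ≤ (Finset.univ.erase i).card := Finset.card_image_le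
  rw [Finset.card_erase_of_mem (Finset.mem_univ i), Finset.card_univ, Fintype.card_fin] at h4
  have := i.pos
  omega

/-- `B/I` (`B` regular local) is a complete intersection iff `I` is a regular ideal. -/
theorem isCompleteIntersection_iff_isRegularIdeal {A B : Type u} [CommRing A] [IsLocalRing A]
    [CommRing B] [IsRegularLocalRing B] (f : B →+* A) (hf : Function.Surjective f) :
    Pi1.IsCompleteIntersection A ↔ CInt.IsRegularIdeal (RingHom.ker f) := by
  have : IsNoetherianRing A := isNoetherianRing_of_surjective B A f hf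
  have : IsRegularLocalRing (Cpl B) := (S0548.result B).1 inferInstance
  let : Algebra B A := f.toAlgebra
  obtain ⟨e, he⟩ := exists_dim_eq B
  obtain ⟨d, hd⟩ := exists_dim_eq A
  have he' : ringKrullDim (Cpl B) = e := by rw [CAlg1.ringKrullDim_adicCompletion B, he]
  obtain ⟨-, h⟩ := presentation_le_and_iff A (Cpl B) ((RingHom.ker f).map (algebraMap B (Cpl B)))
    ⟨(EGA4H10.cplQuotEquiv B A hf).symm⟩ d e hd he'
  rw [← h, cpl_map_le_and_ge]
  exact (isRegularIdeal_iff_dim _ (ker_le_maximal f) d e
    (by rw [ringKrullDim_eq_of_ringEquiv (RingHom.quotientKerEquivOfSurjective hf), hd]) he).symm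

/-- completions of isomorphic local rings -/
noncomputable def cplCongr {A A' : Type u} [CommRing A] [IsLocalRing A] [IsNoetherianRing A] [CommRing A']
    [IsLocalRing A'] (φ : A ≃+* A') : (Cpl A) ≃+* (Cpl A') :=
  letI : Algebra A A' := φ.toRingHom.toAlgebra
  ((RingEquiv.quotientBot _).symm.trans (Ideal.quotEquivOfEq (by
    rw [show RingHom.ker (algebraMap A A') = ⊥ from (RingHom.injective_iff_ker_eq_bot _).1 φ.injective,
      Ideal.map_bot]))).trans (EGA4H10.cplQuotEquiv A A' φ.surjective)

theorem isCompleteIntersection_of_ringEquiv {A A' : Type u} [CommRing A] [IsLocalRing A] [IsNoetherianRing A]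
    [CommRing A'] [IsLocalRing A'] (φ : A ≃+* A') (h : Pi1.IsCompleteIntersection A) :
    Pi1.IsCompleteIntersection A' := by
  obtain ⟨B, _, _, rs, h1, h2, ⟨ψ⟩⟩ := h
  exact ⟨B, inferInstance, inferInstance, rs, h1, h2, ⟨(cplCongr φ).symm.trans ψ⟩⟩

theorem isCompleteIntersection_of_isRegularLocalRing (A : Type u) [CommRing A] [IsRegularLocalRing A] :
    Pi1.IsCompleteIntersection A := by
  rw [isCompleteIntersection_iff_isRegularIdeal (RingHom.id A) Function.surjective_id]
  refine ⟨[], RingTheory.Sequence.IsRegular.nil A A, ?_⟩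
  rw [Ideal.ofList_nil]
  exact (RingHom.injective_iff_ker_eq_bot _).1 Function.injective_id |>.symm

end Groth.Agent.CAlg9.CIT
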