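import Groth.Agent.CAlg9.CIT.FibreStalks
import Groth.Agent.CAlg1.FlatFibre
import Groth.Agent.EGA4Alg4.Depth
import Groth.Agent.RelGCI94.CountCI
import Groth.Agent.SpFP87.DecentDim

/-!
Dimension and depth of local rings of fibres.
-/

set_option autoImplicit false
universe u

open CategoryTheory AlgebraicGeometry IsLocalRing

namespace Groth.Agent.CAlg9.CIT

section

variable {X S : Scheme.{u}} [IsLocallyNoetherian X] (f : X ⟶ S) (x : X)

theorem fiberStalk_noetherian' : IsNoetherianRing (CInt.fiberStalk f x) :=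
  isNoetherianRing_of_ringEquiv _ (fiberStalkEquiv f x)

theorem dim_fiberStalk_le : ringKrullDim (CInt.fiberStalk f x) ≤ ringKrullDim (X.presheaf.stalk x) := by
  rw [← ringKrullDim_eq_of_ringEquiv (fiberStalkEquiv f x)]
  exact ringKrullDim_quotient_le _

theorem depth_fiberStalk_le [IsLocallyNoetherian S] [Flat f] :
    LocCoh.depth (CInt.fiberStalk f x) (CInt.fiberStalk f x) ≤
      LocCoh.depth (X.presheaf.stalk x) (X.presheaf.stalk x) := by
  let := (f.stalkMap x).hom.toAlgebra
  have : IsLocalHom (algebraMap (S.presheaf.stalk (f x)) (X.presheaf.stalk x)) := f.toLRSHom.prop x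
  have : Module.Flat (S.presheaf.stalk (f x)) (X.presheaf.stalk x) := Flat.stalkMap f x
  let J := (maximalIdeal (S.presheaf.stalk (f x))).map (algebraMap (S.presheaf.stalk (f x)) (X.presheaf.stalk x))
  have : Nontrivial (X.presheaf.stalk x ⧸ J) := (fiberStalkEquiv f x).toEquiv.nontrivial
  have : IsLocalRing (X.presheaf.stalk x ⧸ J) := IsLocalRing.of_surjective' _ Ideal.Quotient.mk_surjective
  have := fiberStalk_noetherian' f x
  rw [CAlg1.depth_of_flat_local (S.presheaf.stalk (f x)) (X.presheaf.stalk x)]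
  refine le_trans (le_of_eq ?_) le_add_self
  rw [← CAlg1.depth_eq_of_ringEquiv (A := X.presheaf.stalk x ⧸ J) (B := CInt.fiberStalk f x) (fiberStalkEquiv f x)]
  exact (CAlg1.depth_quotient_self (X.presheaf.stalk x) J).symm

theorem depth_le_dim (A : Type u) [CommRing A] [IsLocalRing A] [IsNoetherianRing A] :
    ((LocCoh.depth A A : ℕ∞) : WithBot ℕ∞) ≤ ringKrullDim A := by
  rw [← Module.supportDim_self_eq_ringKrullDim]
  exact EGA4Alg4.depth_le_supportDim

theorem depth_stalk_le_dim :
    ((LocCoh.depth (X.presheaf.stalk x) (X.presheaf.stalk x) : ℕ∞) : WithBot ℕ∞) ≤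
      ringKrullDim (X.presheaf.stalk x) :=
  depth_le_dim _

theorem dim_fiberStalk_le_depth [IsLocallyNoetherian S] [Flat f]
    (h : LocCoh.IsCohenMacaulayLocalRing (CInt.fiberStalk f x)) :
    ringKrullDim (CInt.fiberStalk f x) ≤
      ((LocCoh.depth (X.presheaf.stalk x) (X.presheaf.stalk x) : ℕ∞) : WithBot ℕ∞) := by
  rw [← Module.supportDim_self_eq_ringKrullDim, h.supportDim_eq_depth]
  exact WithBot.coe_le_coe.2 (depth_fiberStalk_le f x)

end

section Comp

variable {X X' S : Scheme.{u}} [IsLocallyNoetherian X] [IsLocallyNoetherian X'] [IsLocallyNoetherian S]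
  (f : X ⟶ S) (g : X' ⟶ X) (x' : X')

omit [IsLocallyNoetherian X] [IsLocallyNoetherian X'] [IsLocallyNoetherian S] in
theorem map_maximalIdeal_comp :
    (maximalIdeal (S.presheaf.stalk ((g ≫ f) x'))).map ((g ≫ f).stalkMap x').hom =
      ((maximalIdeal (S.presheaf.stalk (f (g x')))).map (f.stalkMap (g x')).hom).map (g.stalkMap x').hom := by
  rw [Scheme.Hom.stalkMap_comp]
  exact (Ideal.map_map _ _).symm

theorem dim_fiberStalk_comp_le :
    ringKrullDim (CInt.fiberStalk (g ≫ f) x') ≤
      ringKrullDim (CInt.fiberStalk f (g x')) + ringKrullDim (CInt.fiberStalk g x') := by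
  let := (g.stalkMap x').hom.toAlgebra
  have : IsLocalHom (algebraMap (X.presheaf.stalk (g x')) (X'.presheaf.stalk x')) := g.toLRSHom.prop x'
  have : IsLocalHom (f.stalkMap (g x')).hom := f.toLRSHom.prop (g x')
  let I := (maximalIdeal (S.presheaf.stalk (f (g x')))).map (f.stalkMap (g x')).hom
  let J := I.map (algebraMap (X.presheaf.stalk (g x')) (X'.presheaf.stalk x'))
  have hI : I ≤ maximalIdeal (X.presheaf.stalk (g x')) := map_maximalIdeal_le _
  have h := EGA4Alg4.ringKrullDim_quotient_le_add_fibre (A := X.presheaf.stalk (g x'))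
    (B := X'.presheaf.stalk x') I (ne_top_of_le_ne_top (maximalIdeal.isMaximal _).ne_top hI) J le_rfl
  have e1 : ringKrullDim (X'.presheaf.stalk x' ⧸ J) = ringKrullDim (CInt.fiberStalk (g ≫ f) x') :=
    ringKrullDim_eq_of_ringEquiv ((Ideal.quotEquivOfEq (map_maximalIdeal_comp f g x').symm).trans
      (fiberStalkEquiv (g ≫ f) x'))
  have e2 : ringKrullDim (X'.presheaf.stalk x' ⧸ (J ⊔ (maximalIdeal (X.presheaf.stalk (g x'))).map
      (algebraMap (X.presheaf.stalk (g x')) (X'.presheaf.stalk x')))) = ringKrullDim (CInt.fiberStalk g x') :=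
    ringKrullDim_eq_of_ringEquiv ((Ideal.quotEquivOfEq (sup_eq_right.2 (Ideal.map_mono hI))).trans
      (fiberStalkEquiv g x'))
  rw [ringKrullDim_eq_of_ringEquiv (fiberStalkEquiv f (g x')), e1, e2] at h
  exact h

theorem dim_fiberStalk_le_comp [Flat g] :
    ringKrullDim (CInt.fiberStalk f (g x')) ≤ ringKrullDim (CInt.fiberStalk (g ≫ f) x') := by
  let := (g.stalkMap x').hom.toAlgebra
  have : IsLocalHom (algebraMap (X.presheaf.stalk (g x')) (X'.presheaf.stalk x')) := g.toLRSHom.prop x'
  have : Module.Flat (X.presheaf.stalk (g x')) (X'.presheaf.stalk x') := Flat.stalkMap g x'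
  let I := (maximalIdeal (S.presheaf.stalk (f (g x')))).map (f.stalkMap (g x')).hom
  let J := I.map (algebraMap (X.presheaf.stalk (g x')) (X'.presheaf.stalk x'))
  have : IsLocalHom (f.stalkMap (g x')).hom := f.toLRSHom.prop (g x')
  have hI : I ≤ maximalIdeal (X.presheaf.stalk (g x')) := map_maximalIdeal_le _
  have hJ : J ≤ maximalIdeal (X'.presheaf.stalk x') := (Ideal.map_mono hI).trans (map_maximalIdeal_le _)
  have : Nontrivial (X.presheaf.stalk (g x') ⧸ I) := (fiberStalkEquiv f (g x')).toEquiv.nontrivial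
  have : Nontrivial (X'.presheaf.stalk x' ⧸ J) :=
    Ideal.Quotient.nontrivial_iff.2 (ne_top_of_le_ne_top (maximalIdeal.isMaximal _).ne_top hJ)
  have : IsLocalRing (X.presheaf.stalk (g x') ⧸ I) := IsLocalRing.of_surjective' _ Ideal.Quotient.mk_surjective
  have : IsLocalRing (X'.presheaf.stalk x' ⧸ J) := IsLocalRing.of_surjective' _ Ideal.Quotient.mk_surjective
  have : Module.Flat (X.presheaf.stalk (g x') ⧸ I) (X'.presheaf.stalk x' ⧸ J) :=
    RingHom.flat_algebraMap_iff.1 (Node.flat_quotientMap' I)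
  have : IsLocalHom (algebraMap (X.presheaf.stalk (g x') ⧸ I) (X'.presheaf.stalk x' ⧸ J)) := by
    refine ((local_hom_TFAE _).out 0 2).2 ?_
    rw [← IsLocalRing.map_maximalIdeal_of_surjective _ (Ideal.Quotient.mk_surjective (I := I)),
      ← IsLocalRing.map_maximalIdeal_of_surjective _ (Ideal.Quotient.mk_surjective (I := J)), Ideal.map_map]
    refine le_trans (le_of_eq ?_) (Ideal.map_mono (map_maximalIdeal_le
      (algebraMap (X.presheaf.stalk (g x')) (X'.presheaf.stalk x'))))
    exact (Ideal.map_map (algebraMap (X.presheaf.stalk (g x')) (X'.presheaf.stalk x')) (Ideal.Quotient.mk J)).symm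
  have e1 : ringKrullDim (X'.presheaf.stalk x' ⧸ J) = ringKrullDim (CInt.fiberStalk (g ≫ f) x') :=
    ringKrullDim_eq_of_ringEquiv ((Ideal.quotEquivOfEq (map_maximalIdeal_comp f g x').symm).trans
      (fiberStalkEquiv (g ≫ f) x'))
  have e2 : ringKrullDim (X.presheaf.stalk (g x') ⧸ I) = ringKrullDim (CInt.fiberStalk f (g x')) :=
    ringKrullDim_eq_of_ringEquiv (fiberStalkEquiv f (g x'))
  rw [← e1, ← e2]
  rw [RelGCI94.ringKrullDim_eq_add_of_flat (R := X.presheaf.stalk (g x') ⧸ I) (S := X'.presheaf.stalk x' ⧸ J)]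
  refine le_add_of_nonneg_right ?_
  have : Nontrivial ((X'.presheaf.stalk x' ⧸ J) ⧸ (maximalIdeal (X.presheaf.stalk (g x') ⧸ I)).map
      (algebraMap (X.presheaf.stalk (g x') ⧸ I) (X'.presheaf.stalk x' ⧸ J))) :=
    Ideal.Quotient.nontrivial_iff.2
      (ne_top_of_le_ne_top (maximalIdeal.isMaximal _).ne_top (map_maximalIdeal_le _))
  exact ringKrullDim_nonneg_of_nontrivial

omit [IsLocallyNoetherian X] [IsLocallyNoetherian X'] [IsLocallyNoetherian S] in
theorem exists_dim_fiberStalk_eq_zero [Surjective g] (x : X) :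
    ∃ z : X', g z = x ∧ ringKrullDim (CInt.fiberStalk g z) = 0 := by
  obtain ⟨z₀, hz₀⟩ := g.surjective x
  subst hz₀
  let w := g.asFiber z₀
  let Z : Set (g.fiber (g z₀)) := irreducibleComponent w
  have hgen := (isIrreducible_irreducibleComponent (x := w)).isGenericPoint_genericPoint
    (isClosed_irreducibleComponent (x := w))
  let η := (isIrreducible_irreducibleComponent (x := w)).genericPoint
  have h0 : ringKrullDim ((g.fiber (g z₀)).presheaf.stalk η) = 0 := by
    rw [SpFP87.dim_stalk_eq_zero_iff]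
    intro a ha
    have h1 : Z ⊆ closure {a} := by
      have h := hgen.def
      show irreducibleComponent w ⊆ _
      rw [← h]
      exact closure_minimal (Set.singleton_subset_iff.2 ha.mem_closure) isClosed_closure
    have h2 : a ∈ irreducibleComponent w := by
      rw [← eq_irreducibleComponent isIrreducible_singleton.closure.isPreirreducible h1]
      exact subset_closure rfl
    exact ha.antisymm (hgen.specializes h2) |>.eq
  refine ⟨g.fiberι _ η, ?_, ?_⟩
  · rw [← Scheme.Hom.comp_apply, Scheme.Hom.fiber_fac, Scheme.Hom.comp_apply, Scheme.fromSpecResidueField_apply]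
  · have h1 : g (g.fiberι _ η) = g z₀ := by
      rw [← Scheme.Hom.comp_apply, Scheme.Hom.fiber_fac, Scheme.Hom.comp_apply, Scheme.fromSpecResidueField_apply]
    have key : ∀ (s : X) (hs : g (g.fiberι _ η) = s) (v : g.fiber s), g.fiberι s v = g.fiberι _ η →
        ringKrullDim ((g.fiber s).presheaf.stalk v) = ringKrullDim (CInt.fiberStalk g (g.fiberι _ η)) := by
      rintro _ rfl v hv
      rw [show v = g.asFiber _ from (g.fiberι _).isEmbedding.injective (hv.trans (g.fiberι_asFiber _).symm)]
    rw [← key _ h1 η rfl, h0]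

end Comp

end Groth.Agent.CAlg9.CIT
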