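import Groth.Agent.CAlg9.CIT.FlatCI
import Groth.Agent.CAlg9.Node.Fibral
import Groth.Agent.FlatMor68.FibreStalk
import Groth.Prelude.Def_CInt
import Mathlib.AlgebraicGeometry.Morphisms.FiniteType
import Mathlib.AlgebraicGeometry.Morphisms.Flat

/-!
Local rings of fibres of morphisms locally of finite type, and complete intersections.
-/

set_option autoImplicit false
universe u

open CategoryTheory AlgebraicGeometry IsLocalRing

namespace Groth.Agent.CAlg9.CIT

theorem stalk_noetherian {X S : Scheme.{u}} (f : X ⟶ S) [LocallyOfFiniteType f] (x : X)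
    [IsNoetherianRing (S.presheaf.stalk (f x))] : IsNoetherianRing (X.presheaf.stalk x) := by
  let := (f.stalkMap x).hom.toAlgebra
  have : Algebra.EssFiniteType (S.presheaf.stalk (f x)) (X.presheaf.stalk x) :=
    LocallyOfFiniteType.stalkMap f x
  exact Algebra.EssFiniteType.isNoetherianRing (S.presheaf.stalk (f x)) (X.presheaf.stalk x)

theorem fiberStalk_noetherian {X S : Scheme.{u}} (f : X ⟶ S) [LocallyOfFiniteType f] (x : X) :
    IsNoetherianRing (CInt.fiberStalk f x) := by
  have : LocallyOfFiniteType (f.fiberToSpecResidueField (f x)) :=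
    MorphismProperty.pullback_snd _ _ inferInstance
  have : IsLocallyNoetherian (f.fiber (f x)) :=
    LocallyOfFiniteType.isLocallyNoetherian (f.fiberToSpecResidueField (f x))
  infer_instance

/-- the local ring of the fibre, as a quotient of the local ring -/
noncomputable def fiberStalkEquiv {X S : Scheme.{u}} (f : X ⟶ S) (x : X) :
    (X.presheaf.stalk x ⧸ (maximalIdeal (S.presheaf.stalk (f x))).map (f.stalkMap x).hom) ≃+*
      CInt.fiberStalk f x :=
  FlatMor68.FibreStalk.fibreStalkEquivAt f x

theorem ci_stalk_of_fiber {X S : Scheme.{u}} (f : X ⟶ S) [Flat f] [LocallyOfFiniteType f] (x : X)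
    [IsNoetherianRing (S.presheaf.stalk (f x))] (hs : Pi1.IsCompleteIntersection (S.presheaf.stalk (f x)))
    (hF : Pi1.IsCompleteIntersection (CInt.fiberStalk f x)) :
    Pi1.IsCompleteIntersection (X.presheaf.stalk x) := by
  have := stalk_noetherian f x
  let := (f.stalkMap x).hom.toAlgebra
  have : IsLocalHom (algebraMap (S.presheaf.stalk (f x)) (X.presheaf.stalk x)) := f.toLRSHom.prop x
  have : Module.Flat (S.presheaf.stalk (f x)) (X.presheaf.stalk x) := Flat.stalkMap f x
  have := fiberStalk_noetherian f x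
  exact ci_of_flat hs (isCompleteIntersection_of_ringEquiv (fiberStalkEquiv f x).symm hF)

theorem ci_quot_of_flat {R S : Type u} [CommRing R] [IsLocalRing R] [CommRing S] [IsLocalRing S]
    [Algebra R S] [IsLocalHom (algebraMap R S)] [Module.Flat R S] (I : Ideal R) (hI : I ≤ maximalIdeal R)
    [IsNoetherianRing (R ⧸ I)] [IsNoetherianRing (S ⧸ I.map (algebraMap R S))]
    [IsLocalRing (R ⧸ I)] [IsLocalRing (S ⧸ I.map (algebraMap R S))]
    [IsLocalRing (S ⧸ (maximalIdeal R).map (algebraMap R S))]
    (h1 : Pi1.IsCompleteIntersection (R ⧸ I))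
    (h2 : Pi1.IsCompleteIntersection (S ⧸ (maximalIdeal R).map (algebraMap R S))) :
    Pi1.IsCompleteIntersection (S ⧸ I.map (algebraMap R S)) := by
  let e := (DoubleQuot.quotQuotEquivQuotOfLE (Ideal.map_mono hI : I.map (algebraMap R S) ≤
    (maximalIdeal R).map (algebraMap R S))).symm
  have : Module.Flat (R ⧸ I) (S ⧸ I.map (algebraMap R S)) :=
    RingHom.flat_algebraMap_iff.1 (Node.flat_quotientMap' I)
  have hmax : maximalIdeal (R ⧸ I) = (maximalIdeal R).map (Ideal.Quotient.mk I) :=
    (IsLocalRing.map_maximalIdeal_of_surjective _ Ideal.Quotient.mk_surjective).symm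
  have hmap : (maximalIdeal (R ⧸ I)).map (algebraMap (R ⧸ I) (S ⧸ I.map (algebraMap R S))) =
      ((maximalIdeal R).map (algebraMap R S)).map (Ideal.Quotient.mk (I.map (algebraMap R S))) := by
    rw [hmax, Ideal.map_map, Ideal.map_map]
    rfl
  have : IsLocalHom (algebraMap (R ⧸ I) (S ⧸ I.map (algebraMap R S))) := by
    refine ((local_hom_TFAE _).out 0 2).2 ?_
    rw [hmap, ← IsLocalRing.map_maximalIdeal_of_surjective _
      (Ideal.Quotient.mk_surjective (I := I.map (algebraMap R S)))]
    exact Ideal.map_mono (map_maximalIdeal_le (algebraMap R S))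
  have := e.isLocalRing
  have : IsNoetherianRing (S ⧸ (maximalIdeal R).map (algebraMap R S)) := isNoetherianRing_of_ringEquiv _ e.symm
  exact ci_of_flat' _ hmap.symm h1 (isCompleteIntersection_of_ringEquiv e h2)

end Groth.Agent.CAlg9.CIT
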