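import Groth.Agent.CAlg9.CIT.H1Change
import Groth.Agent.EGA4H10.CompleteUC
import Groth.Agent.RelGCI94.CountCI

/-!
The complete intersection criterion by first Koszul homology; flat local extensions.
-/

set_option autoImplicit false
universe u

open IsLocalRing

namespace Groth.Agent.CAlg9.CIT

local notation "Cpl" A => AdicCompletion (maximalIdeal A) A

theorem spanFinrank_le_tuple {A : Type u} [CommRing A] [IsLocalRing A] {n : ℕ} (g : Fin n → A)
    (hg : Ideal.span (Set.range g) = maximalIdeal A) : (maximalIdeal A).spanFinrank ≤ n := by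
  rw [← hg]
  refine (Submodule.spanFinrank_span_le_ncard_of_finite (Set.finite_range g)).trans ?_
  rw [← Nat.card_coe_set_eq]
  exact (Finite.card_range_le g).trans_eq (Nat.card_fin n)

/-- `n − μ(H1(g))` is the geometric depth `dim B − μ(I)` of any presentation `Â = B/I`. -/
theorem tuple_formula {A : Type u} [CommRing A] [IsLocalRing A] [IsNoetherianRing A]
    (B : Type u) [CommRing B] [IsRegularLocalRing B] (f : B →+* Cpl A) (hf : Function.Surjective f)
    (d : ℕ) (hd : ringKrullDim B = d) :
    ∀ (n : ℕ) (g : Fin n → A), Ideal.span (Set.range g) = maximalIdeal A →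
      (n : ℤ) - mu1 g = (d : ℤ) - (RingHom.ker f).spanFinrank := by
  intro n
  induction n with
  | zero =>
    intro g hg
    have := noetherian_cpl A
    have hν : 0 = (maximalIdeal (Cpl A)).spanFinrank := by
      rw [AdicCompletion.spanFinrank_maximalIdeal_eq]
      exact (Nat.le_zero.1 (spanFinrank_le_tuple g hg)).symm
    have hxb : Ideal.span (Set.range fun i => algebraMap A (Cpl A) (g i)) = maximalIdeal (Cpl A) := by
      rw [AdicCompletion.maximalIdeal_eq_map, ← hg, Ideal.map_span, ← Set.range_comp]
      rfl
    rw [delta_aux _ hxb hν d B f hf hd, ← mu1_baseChange (S := Cpl A) g]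
    rfl
  | succ n ih =>
    intro g hg
    rcases (spanFinrank_le_tuple g hg).eq_or_lt with heq | hlt
    · have := noetherian_cpl A
      have hν : n + 1 = (maximalIdeal (Cpl A)).spanFinrank := by
        rw [AdicCompletion.spanFinrank_maximalIdeal_eq, heq]
      have hxb : Ideal.span (Set.range fun i => algebraMap A (Cpl A) (g i)) = maximalIdeal (Cpl A) := by
        rw [AdicCompletion.maximalIdeal_eq_map, ← hg, Ideal.map_span, ← Set.range_comp]
        rfl
      rw [delta_aux _ hxb hν d B f hf hd, ← mu1_baseChange (S := Cpl A) g]
      rfl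
    · obtain ⟨i, hi⟩ := exists_redundant g (by rw [hg]; exact hlt)
      have himg : g '' {l | l ≠ i} = Set.range fun l => g (i.succAbove l) := by
        rw [show {l | l ≠ i} = Set.range i.succAbove by rw [Fin.range_succAbove]; rfl, ← Set.range_comp]
        rfl
      rw [himg] at hi
      obtain ⟨c, hc⟩ := Ideal.mem_span_range_iff_exists_fun.1 hi
      have hg' : Ideal.span (Set.range fun l => g (i.succAbove l)) = maximalIdeal A := by
        refine le_antisymm (hg ▸ Ideal.span_mono (Set.range_comp_subset_range i.succAbove g)) ?_
        rw [← hg, Ideal.span_le]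
        rintro _ ⟨j, rfl⟩
        induction j using Fin.succAboveCases i with
        | x => exact hi
        | p l => exact Ideal.subset_span ⟨l, rfl⟩
      have h1 := mu1_succAbove g hg i c hc
      have h2 := ih _ hg'
      omega

/-- Complete intersections are recognised on any generators of the maximal ideal. -/
theorem tuple_le_and_iff (A : Type u) [CommRing A] [IsLocalRing A] [IsNoetherianRing A] {n : ℕ} (g : Fin n → A)
    (hg : Ideal.span (Set.range g) = maximalIdeal A) (d : ℕ) (hd : ringKrullDim A = d) :
    (n : ℤ) - mu1 g ≤ d ∧ ((n : ℤ) - mu1 g = d ↔ Pi1.IsCompleteIntersection A) := by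
  have := noetherian_cpl A
  obtain ⟨B, _, _, f, hf⟩ := EGA4H10.exists_regular_surjection (Cpl A)
  obtain ⟨e, he⟩ := exists_dim_eq B
  obtain ⟨h1, h2⟩ := presentation_le_and_iff A B (RingHom.ker f)
    ⟨(RingHom.quotientKerEquivOfSurjective hf).symm⟩ d e hd he
  rw [tuple_formula B f hf e he n g hg, ← h2]
  omega

theorem exists_tuple (A : Type u) [CommRing A] [IsLocalRing A] [IsNoetherianRing A] :
    ∃ (n : ℕ) (g : Fin n → A), Ideal.span (Set.range g) = maximalIdeal A :=
  Submodule.fg_iff_exists_fin_generating_family.1 (IsNoetherian.noetherian (maximalIdeal A))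

section Append

variable {R S : Type u} [CommRing R] [CommRing S] [IsNoetherianRing R] [IsNoetherianRing S]
  [Algebra R S] [Module.Flat R S]

theorem mu1_append_le {r t : ℕ} (x : Fin r → R) (y : Fin t → S) :
    mu1 (Fin.append (fun i => algebraMap R S (x i)) y) ≤
      mu1 x + mu1 (fun j => Ideal.Quotient.mk ((Ideal.span (Set.range x)).map (algebraMap R S)) (y j)) := by
  classical
  let J := (Ideal.span (Set.range x)).map (algebraMap R S)
  let π := Ideal.Quotient.mk J
  let X : Fin r → S := fun i => algebraMap R S (x i)
  have hJ : J = Ideal.span (Set.range X) := by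
    show Ideal.map _ _ = _
    rw [Ideal.map_span, ← Set.range_comp]; rfl
  let g := Fin.append X y
  let ι₁ : (Fin r → S) →ₗ[S] (Fin (r + t) → S) :=
    { toFun := fun v => Fin.append v 0
      map_add' := fun v w => by funext j; induction j using Fin.addCases <;> simp
      map_smul' := fun c v => by funext j; induction j using Fin.addCases <;> simp }
  have hι₁triv : (triv X).map ι₁ ≤ triv g := by
    rw [triv, Submodule.map_span, Submodule.span_le]
    rintro _ ⟨_, ⟨p, q, rfl⟩, rfl⟩
    have hs : ∀ p : Fin r, ι₁ (Pi.single p 1) = Pi.single (Fin.castAdd t p) 1 := fun p => by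
      funext j
      induction j using Fin.addCases with
      | left j => simp [ι₁, Pi.single_apply, Fin.castAdd_inj]
      | right j =>
        have hne : Fin.natAdd r j ≠ Fin.castAdd t p := fun h => by
          have := congrArg Fin.val h; simp at this; omega
        simp [ι₁, Pi.single_eq_of_ne hne]
    exact Submodule.subset_span ⟨Fin.castAdd t p, Fin.castAdd t q, by
      rw [map_sub, map_smul, map_smul, hs, hs]; simp [g]⟩
  obtain ⟨Gx, hGx, hcx, hlx⟩ := exists_gens x
  obtain ⟨Gy, hGy, hcy, hly⟩ := exists_gens (fun j => π (y j))
  have hlift : ∀ z : Fin t → S ⧸ J, ∃ a : Fin (r + t) → S, z ∈ rels (fun j => π (y j)) →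
      a ∈ rels g ∧ ∀ j, π (a (Fin.natAdd r j)) = z j := fun z => by
    by_cases hz : z ∈ rels (fun j => π (y j))
    · choose b hb using fun j => Ideal.Quotient.mk_surjective (z j)
      have h1 : ∑ j, b j * y j ∈ Ideal.span (Set.range X) := by
        rw [← hJ, ← Ideal.Quotient.eq_zero_iff_mem, map_sum, ← mem_rels.1 hz]
        exact Finset.sum_congr rfl fun j _ => by rw [map_mul, hb]
      obtain ⟨a, ha⟩ := Ideal.mem_span_range_iff_exists_fun.1 h1
      refine ⟨Fin.append (fun i => - a i) b, fun _ => ⟨mem_rels.2 ?_, fun j => by rw [Fin.append_right]; exact hb j⟩⟩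
      simp [g, Fin.sum_univ_add, ha]
    · exact ⟨0, fun h => absurd h hz⟩
  choose lift hliftr using hlift
  let G : Finset (Fin (r + t) → S) := Gx.image (fun a => ι₁ fun i => algebraMap R S (a i)) ∪ Gy.image lift
  have hred : ∀ a ∈ rels g, (fun j => π (a (Fin.natAdd r j))) ∈ rels (fun j => π (y j)) := fun a ha => by
    refine mem_rels.2 ?_
    have h0 := congrArg π (mem_rels.1 ha)
    simp only [g, Fin.sum_univ_add, Fin.append_left, Fin.append_right, map_add, map_sum, map_mul, map_zero] at h0
    rwa [Finset.sum_eq_zero (fun i _ => by
      rw [Ideal.Quotient.eq_zero_iff_mem.2 (hJ ▸ Ideal.subset_span ⟨i, rfl⟩ : X i ∈ J), mul_zero]), zero_add] at h0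
  refine (mu1_le_of_gens g G ?_ fun a ha => ?_).trans ((Finset.card_union_le _ _).trans
    (add_le_add (Finset.card_image_le.trans hcx) (Finset.card_image_le.trans hcy)))
  · intro a ha
    rcases Finset.mem_union.1 ha with h | h
    · obtain ⟨b, hb, rfl⟩ := Finset.mem_image.1 h
      refine mem_rels.2 ?_
      simp only [g, ι₁, LinearMap.coe_mk, AddHom.coe_mk, Fin.sum_univ_add, Fin.append_left, Fin.append_right,
        Pi.zero_apply, zero_mul, Finset.sum_const_zero, add_zero, X, ← map_mul, ← map_sum,
        mem_rels.1 (hGx b hb), map_zero]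
    · obtain ⟨z, hz, rfl⟩ := Finset.mem_image.1 h
      exact (hliftr z (hGy z hz)).1
  · let N := Submodule.span S (G : Set (Fin (r + t) → S)) ⊔ triv g
    show a ∈ N
    -- a relation with vanishing second part
    have hfirst : ∀ a ∈ rels g, (∀ j, a (Fin.natAdd r j) = 0) → a ∈ N := fun a ha h0 => by
      have ha' : a = ι₁ (fun i => a (Fin.castAdd t i)) := by
        funext j
        induction j using Fin.addCases with
        | left j => simp [ι₁]
        | right j => simp [ι₁, h0]
      have hv : (fun i => a (Fin.castAdd t i)) ∈ rels X := mem_rels.2 (by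
        have := mem_rels.1 ha
        simpa [g, Fin.sum_univ_add, h0] using this)
      rw [← range_relMap x] at hv
      obtain ⟨u, hu⟩ := hv
      rw [ha', ← hu]
      clear ha' hu
      induction u with
      | zero => rw [map_zero, map_zero]; exact zero_mem _
      | add u w hu hw => rw [map_add, map_add]; exact add_mem hu hw
      | tmul s b =>
        rw [show relMap x (s ⊗ₜ b) = s • fun i => algebraMap R S (b.1 i) from funext fun i => by
          rw [relMap_tmul]; rfl, map_smul]
        refine Submodule.smul_mem _ _ ?_
        obtain ⟨c, hc, tt, htt, hct⟩ := Submodule.mem_sup.1 (hlx b.2)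
        rw [← hct]
        have hadd : ∀ u w : Fin r → R, ι₁ (fun i => algebraMap R S ((u + w) i)) =
            ι₁ (fun i => algebraMap R S (u i)) + ι₁ (fun i => algebraMap R S (w i)) := fun u w => by
          rw [← map_add]; exact congrArg ι₁ (funext fun i => map_add _ _ _)
        rw [hadd]
        refine add_mem ?_ ?_
        · clear hct
          induction hc using Submodule.span_induction with
          | mem w hw => exact Submodule.mem_sup_left (Submodule.subset_span
              (Finset.mem_union_left _ (Finset.mem_image_of_mem _ hw)))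
          | zero =>
            rw [show (fun i => algebraMap R S ((0 : Fin r → R) i)) = 0 from funext fun i => map_zero _, map_zero]
            exact zero_mem _
          | add u w _ _ hu hw => rw [hadd]; exact add_mem hu hw
          | smul c u _ hu =>
            rw [show (fun i => algebraMap R S ((c • u) i)) = algebraMap R S c • fun i => algebraMap R S (u i)
              from funext fun i => by simp, map_smul]
            exact Submodule.smul_mem _ _ hu
        · refine Submodule.mem_sup_right (hι₁triv (Submodule.mem_map_of_mem ?_))
          clear hct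
          induction htt using Submodule.span_induction with
          | mem w hw =>
            obtain ⟨p, q, rfl⟩ := hw
            refine Submodule.subset_span ⟨p, q, funext fun k => ?_⟩
            simp only [X, Pi.sub_apply, Pi.smul_apply, smul_eq_mul, map_sub, map_mul, Pi.single_apply]
            split_ifs <;> simp
          | zero =>
            rw [show (fun i => algebraMap R S ((0 : Fin r → R) i)) = 0 from funext fun i => map_zero _]
            exact zero_mem _
          | add u w _ _ hu hw =>
            rw [show (fun i => algebraMap R S ((u + w) i)) = (fun i => algebraMap R S (u i)) +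
              fun i => algebraMap R S (w i) from funext fun i => map_add _ _ _]
            exact add_mem hu hw
          | smul c u _ hu =>
            rw [show (fun i => algebraMap R S ((c • u) i)) = algebraMap R S c • fun i => algebraMap R S (u i)
              from funext fun i => by simp]
            exact Submodule.smul_mem _ _ hu
    -- clear the second part
    let p : (Fin (r + t) → S) → (Fin t → S ⧸ J) := fun a j => π (a (Fin.natAdd r j))
    have hzero : ∀ a ∈ rels g, p a = 0 → a ∈ N := fun a ha h0 => by
      have hmem : ∀ j, a (Fin.natAdd r j) ∈ Ideal.span (Set.range X) := fun j =>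
        hJ ▸ Ideal.Quotient.eq_zero_iff_mem.1 (congrFun h0 j)
      choose e he using fun j => Ideal.mem_span_range_iff_exists_fun.1 (hmem j)
      let T : Fin (r + t) → S := ∑ j, ∑ i, e j i •
        (g (Fin.castAdd t i) • (Pi.single (Fin.natAdd r j) 1 : Fin (r + t) → S) -
          g (Fin.natAdd r j) • (Pi.single (Fin.castAdd t i) 1 : Fin (r + t) → S))
      have hT : T ∈ triv g := sum_mem fun j _ => sum_mem fun i _ =>
        Submodule.smul_mem _ _ (Submodule.subset_span ⟨_, _, rfl⟩)
      have hTj : ∀ j, T (Fin.natAdd r j) = a (Fin.natAdd r j) := fun j => by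
        rw [← he j]
        have hne : ∀ (p : Fin r) (q : Fin t), Fin.natAdd r q ≠ Fin.castAdd t p := fun p q h => by
          have := congrArg Fin.val h; simp at this; omega
        simp [T, g, Finset.sum_apply, Pi.single_apply, hne, X, Fin.natAdd_inj, Algebra.smul_def, mul_comm]
      rw [← sub_add_cancel a T]
      exact add_mem (hfirst _ (sub_mem ha (triv_le_rels g hT)) fun j => by
        rw [Pi.sub_apply, hTj, sub_self]) (Submodule.mem_sup_right hT)
    have hmain : ∀ z ∈ Submodule.span (S ⧸ J) (Gy : Set (Fin t → S ⧸ J)) ⊔ triv (fun j => π (y j)),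
        ∃ b ∈ N, b ∈ rels g ∧ p b = z := by
      intro z hz
      rw [triv, ← Submodule.span_union] at hz
      induction hz using Submodule.span_induction with
      | zero => exact ⟨0, zero_mem _, zero_mem _, funext fun j => map_zero π⟩
      | add u w _ _ hu hw =>
        obtain ⟨b, h1, h2, h3⟩ := hu
        obtain ⟨b', h1', h2', h3'⟩ := hw
        exact ⟨b + b', add_mem h1 h1', add_mem h2 h2', funext fun j => by
          show π _ = _; rw [Pi.add_apply, map_add, ← h3, ← h3']; rfl⟩
      | smul c u _ hu =>
        obtain ⟨b, h1, h2, h3⟩ := hu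
        obtain ⟨c, rfl⟩ := Ideal.Quotient.mk_surjective c
        exact ⟨c • b, Submodule.smul_mem _ _ h1, Submodule.smul_mem _ _ h2, funext fun j => by
          show π _ = _; rw [Pi.smul_apply, smul_eq_mul, map_mul, ← h3]; rfl⟩
      | mem w hw =>
        rcases hw with hw | ⟨i, j, rfl⟩
        · exact ⟨lift w, Submodule.mem_sup_left (Submodule.subset_span
            (Finset.mem_union_right _ (Finset.mem_image_of_mem _ hw))), (hliftr w (hGy w hw)).1,
            funext (hliftr w (hGy w hw)).2⟩
        · have hmem : g (Fin.natAdd r j) • (Pi.single (Fin.natAdd r i) 1 : Fin (r + t) → S) -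
              g (Fin.natAdd r i) • (Pi.single (Fin.natAdd r j) 1 : Fin (r + t) → S) ∈ triv g :=
            Submodule.subset_span ⟨_, _, rfl⟩
          refine ⟨_, Submodule.mem_sup_right hmem, triv_le_rels g hmem, funext fun k => ?_⟩
          simp only [p, g, Pi.sub_apply, Pi.smul_apply, smul_eq_mul, map_sub, map_mul, Fin.append_right,
            Pi.single_apply, Fin.natAdd_inj]
          split_ifs <;> simp
    obtain ⟨b, hbN, hbr, hbp⟩ := hmain _ (hly (hred a ha))
    rw [← sub_add_cancel a b]
    refine add_mem (hzero _ (sub_mem ha hbr) (funext fun j => ?_)) hbN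
    show π _ = 0
    rw [Pi.sub_apply, map_sub, ← congrFun hbp j, sub_self]

end Append

end Groth.Agent.CAlg9.CIT
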