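import Groth.Agent.CAlg9.CIT.FlatCI
import Groth.Agent.CAlg5.RegularHom

/-!
Complete intersection local rings along flat maps with complete intersection fibres.
-/

set_option autoImplicit false
universe u

open IsLocalRing TensorProduct

namespace Groth.Agent.CAlg9.CIT

/-- all local rings are complete intersections -/
def AllCI (R : Type u) [CommRing R] : Prop :=
  ∀ (p : Ideal R) [p.IsPrime], Pi1.IsCompleteIntersection (Localization.AtPrime p)

theorem ci_congr {T : Type u} [CommRing T] {P Q : Ideal T} [P.IsPrime] [Q.IsPrime] (h : P = Q)
    (hP : Pi1.IsCompleteIntersection (Localization.AtPrime P)) :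
    Pi1.IsCompleteIntersection (Localization.AtPrime Q) := by
  subst h; exact hP

theorem allCI_of_ringEquiv {R R' : Type u} [CommRing R] [CommRing R'] [IsNoetherianRing R] (e : R ≃+* R')
    (h : AllCI R) : AllCI R' := fun p _ => by
  have : IsNoetherianRing (Localization.AtPrime (p.comap e)) :=
    IsLocalization.isNoetherianRing (p.comap e).primeCompl _ inferInstance
  exact isCompleteIntersection_of_ringEquiv
    (IsLocalization.ringEquivOfRingEquiv (Localization.AtPrime (p.comap e)) (Localization.AtPrime p) e
      (e.map_primeCompl_comap_eq p)) (h (p.comap e))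

theorem allCI_of_isRegularRing (R : Type u) [CommRing R] [IsRegularRing R] : AllCI R := fun p _ =>
  have := IsRegularRing.isRegularLocalRing_localization p
  isCompleteIntersection_of_isRegularLocalRing _

/-- flat over a complete intersection ring with complete intersection fibres -/
theorem allCI_of_fibres (R S : Type u) [CommRing R] [IsNoetherianRing R] [CommRing S]
    [IsNoetherianRing S] [Algebra R S] [Module.Flat R S] (hR : AllCI R)
    (hfib : ∀ (p : Ideal R) [p.IsPrime], AllCI (p.Fiber S)) : AllCI S := fun q _ => by
  obtain ⟨Q, _, hq⟩ := CAlg1.exists_fibre_prime (R := R) q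
  set p := q.under R
  let r : Ideal S := Q.comap (Algebra.TensorProduct.includeRight : S →ₐ[R] p.Fiber S)
  have hr : r.LiesOver p := ⟨by
    show p = r.comap (algebraMap R S)
    rw [show r = q from hq]⟩
  let := Localization.AtPrime.algebraOfLiesOver p r
  let A := Localization.AtPrime p
  let B := Localization.AtPrime r
  have : IsNoetherianRing B := IsLocalization.isNoetherianRing r.primeCompl _ inferInstance
  have : IsNoetherianRing A := IsLocalization.isNoetherianRing p.primeCompl _ inferInstance
  have : IsLocalHom (algebraMap A B) := Localization.isLocalHom_localRingHom p r _ _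
  have : Module.Flat A B := inferInstance
  let e : Localization.AtPrime Q ≃ₐ[A] B ⧸ p.map (algebraMap R B) :=
    Ideal.Fiber.localizationAlgEquivQuotient p Q
  have hm : (maximalIdeal A).map (algebraMap A B) = p.map (algebraMap R B) := by
    rw [← Localization.AtPrime.map_eq_maximalIdeal, Ideal.map_map, ← IsScalarTower.algebraMap_eq]
  have : IsNoetherianRing (Localization.AtPrime Q) :=
    isNoetherianRing_of_ringEquiv _ (e.toRingEquiv.trans (Ideal.quotEquivOfEq hm.symm)).symm
  exact ci_congr hq (ci_of_flat (R := A) (S := B) (hR p) (isCompleteIntersection_of_ringEquiv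
    (e.toRingEquiv.trans (Ideal.quotEquivOfEq hm.symm)) (hfib p Q)))

/-- complete intersection fibres compose with regular homomorphisms -/
theorem fibres_comp_regular (A B C : Type u) [CommRing A] [CommRing B] [CommRing C] [IsNoetherianRing B]
    [IsNoetherianRing C] [Algebra A B] [Algebra B C] [Algebra A C] [IsScalarTower A B C] [Module.Flat B C]
    (hBC : CAlg.IsRegularHom B C) (q : Ideal A) [q.IsPrime] (hAB : AllCI (q.Fiber B)) :
    AllCI (q.Fiber C) := by
  let T := B ⊗[A] q.ResidueField
  have : IsNoetherianRing T := Algebra.EssFiniteType.isNoetherianRing B T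
  have : IsNoetherianRing (T ⊗[B] C) := by
    have : IsNoetherianRing (C ⊗[B] T) := Algebra.EssFiniteType.isNoetherianRing C _
    exact isNoetherianRing_of_ringEquiv _ (Algebra.TensorProduct.comm B C T).toRingEquiv
  have : IsNoetherianRing (q.Fiber B) :=
    isNoetherianRing_of_ringEquiv _ (Algebra.TensorProduct.comm A B q.ResidueField).toRingEquiv
  have hT : AllCI T := allCI_of_ringEquiv (Algebra.TensorProduct.comm A q.ResidueField B).toRingEquiv hAB
  obtain ⟨hTflat, hTfib⟩ := CAlg5.isRegularHom_baseChange B C T hBC
  have h : AllCI (T ⊗[B] C) := allCI_of_fibres T (T ⊗[B] C) hT fun P _ => by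
    have := (hTfib P).1
    have := CAlg5.isRegularRing_of_isGeometricallyRegular (hTfib P).2
    exact allCI_of_isRegularRing _
  exact allCI_of_ringEquiv ((Algebra.TensorProduct.comm B T C).toRingEquiv.trans <|
      (Algebra.TensorProduct.cancelBaseChange A B C C q.ResidueField).toRingEquiv.trans
      (Algebra.TensorProduct.comm A C q.ResidueField).toRingEquiv) h

end Groth.Agent.CAlg9.CIT
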