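import Groth.Agent.CAlg9.CIT.FieldExt
import Groth.Agent.CAlg9.CIT.Fibres
import Mathlib.FieldTheory.IntermediateField.Adjoin.Algebra
import Mathlib.RingTheory.Localization.BaseChange

/-!
Complete intersection rings and finitely generated field extensions.
-/

set_option autoImplicit false
universe u

open IsLocalRing TensorProduct

namespace Groth.Agent.CAlg9.CIT

theorem noetherian_fg_tensor (k K R : Type u) [Field k] [Field K] [Algebra k K] [CommRing R] [Algebra k R]
    [IsNoetherianRing R] [Algebra.EssFiniteType k K] : IsNoetherianRing (R ⊗[k] K) :=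
  have := Algebra.EssFiniteType.baseChange (R := k) (S := K) (T := R)
  Algebra.EssFiniteType.isNoetherianRing R _

theorem allCI_fg_field_tensor {k K L : Type u} [Field k] [Field K] [Algebra k K] [Field L] [Algebra k L]
    {A : Type u} [CommRing A] [IsDomain A] [Algebra k A] [Algebra.FiniteType k A] [Algebra A K]
    [IsScalarTower k A K] [IsFractionRing A K] : AllCI (K ⊗[k] L) := fun P _ => by
  let : Algebra (A ⊗[k] L) (K ⊗[k] L) :=
    (Algebra.TensorProduct.map (IsScalarTower.toAlgHom k A K) (AlgHom.id k L)).toRingHom.toAlgebra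
  have : IsScalarTower A (A ⊗[k] L) (K ⊗[k] L) := IsScalarTower.of_algebraMap_eq' (by ext a; rfl)
  have : IsLocalization (Algebra.algebraMapSubmonoid (A ⊗[k] L) (nonZeroDivisors A)) (K ⊗[k] L) :=
    IsLocalization.tensorProduct_tensorProduct k L (nonZeroDivisors A) K (by ext l; simp [RingHom.algebraMap_toAlgebra])
  let Q : Ideal (A ⊗[k] L) := P.comap (algebraMap (A ⊗[k] L) (K ⊗[k] L))
  have h0 : Q.comap (algebraMap A (A ⊗[k] L)) = ⊥ := by
    rw [Ideal.comap_comap, ← IsScalarTower.algebraMap_eq, IsScalarTower.algebraMap_eq A K (K ⊗[k] L),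
      ← Ideal.comap_comap]
    rw [(Ideal.eq_bot_or_top (P.comap (algebraMap K (K ⊗[k] L)))).resolve_right
      (Ideal.IsPrime.ne_top inferInstance), ← RingHom.ker_eq_comap_bot]
    exact (RingHom.injective_iff_ker_eq_bot _).1 (IsFractionRing.injective A K)
  have : IsRegularLocalRing (Localization.AtPrime (⊥ : Ideal A)) := by
    have hb : IsLocalization.AtPrime K (⊥ : Ideal A) := by
      show IsLocalization (⊥ : Ideal A).primeCompl K
      rw [Ideal.primeCompl_bot]
      infer_instance
    exact IsRegularLocalRing.of_ringEquiv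
      (IsLocalization.algEquiv (⊥ : Ideal A).primeCompl K (Localization.AtPrime (⊥ : Ideal A))).toRingEquiv
  have hA : Pi1.IsCompleteIntersection (Localization.AtPrime (Q.comap (algebraMap A (A ⊗[k] L)))) :=
    ci_congr h0.symm (isCompleteIntersection_of_isRegularLocalRing _)
  have h := (ci_fieldExt_iff Q).1 hA
  have : IsNoetherianRing (A ⊗[k] L) := by
    have := Algebra.FiniteType.isNoetherianRing L (L ⊗[k] A)
    exact isNoetherianRing_of_ringEquiv _ (Algebra.TensorProduct.comm k L A).toRingEquiv
  have : IsNoetherianRing (Localization.AtPrime Q) :=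
    IsLocalization.isNoetherianRing Q.primeCompl _ inferInstance
  have : IsLocalization.AtPrime (Localization.AtPrime P) Q :=
    IsLocalization.isLocalization_isLocalization_atPrime_isLocalization
      (Algebra.algebraMapSubmonoid (A ⊗[k] L) (nonZeroDivisors A)) (Localization.AtPrime P) P
  let e : Localization.AtPrime Q ≃+* Localization.AtPrime P :=
    (IsLocalization.algEquiv Q.primeCompl (Localization.AtPrime Q) (Localization.AtPrime P)).toRingEquiv
  exact isCompleteIntersection_of_ringEquiv e h

theorem allCI_fg_baseChange (k K R : Type u) [Field k] [Field K] [Algebra k K]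
    (hK : ∃ s : Finset K, IntermediateField.adjoin k (s : Set K) = ⊤) [CommRing R] [Algebra k R]
    [IsNoetherianRing R] (hR : AllCI R) : IsNoetherianRing (K ⊗[k] R) ∧ AllCI (K ⊗[k] R) := by
  obtain ⟨s, hs⟩ := hK
  have : Algebra.EssFiniteType k K := IntermediateField.fg_top_iff.1 ⟨s, hs⟩
  let A := Algebra.adjoin k (s : Set K)
  have : Algebra.FiniteType k A := A.fg_iff_finiteType.1 ⟨s, rfl⟩
  have : IsFractionRing A K := .of_field _ _ fun x => by
    obtain ⟨a, ha, b, hb, hab⟩ := IntermediateField.mem_adjoin_iff_div.1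
      (show x ∈ IntermediateField.adjoin k (s : Set K) by rw [hs]; exact IntermediateField.mem_top)
    exact ⟨⟨a, ha⟩, ⟨b, hb⟩, hab⟩
  have := noetherian_fg_tensor k K R
  have h2 : AllCI (R ⊗[k] K) := allCI_of_fibres R (R ⊗[k] K) hR fun p _ => by
    have := noetherian_fg_tensor k K p.ResidueField
    have : IsNoetherianRing (K ⊗[k] p.ResidueField) :=
      isNoetherianRing_of_ringEquiv _ (Algebra.TensorProduct.comm k p.ResidueField K).toRingEquiv
    exact allCI_of_ringEquiv ((Algebra.TensorProduct.comm k K p.ResidueField).toRingEquiv.trans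
      (Algebra.TensorProduct.cancelBaseChange k R p.ResidueField p.ResidueField K).symm.toRingEquiv)
      (allCI_fg_field_tensor (A := A))
  exact ⟨isNoetherianRing_of_ringEquiv _ (Algebra.TensorProduct.comm k R K).toRingEquiv,
    allCI_of_ringEquiv (Algebra.TensorProduct.comm k R K).toRingEquiv h2⟩

end Groth.Agent.CAlg9.CIT
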