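import Groth.Agent.CAlg9.CIT.FibreCodim
import Mathlib.AlgebraicGeometry.Fiber
import Mathlib.AlgebraicGeometry.Morphisms.Flat
import Mathlib.AlgebraicGeometry.PullbackCarrier

/-!
Dimension of fibres under base change.
-/

set_option autoImplicit false
universe u

open CategoryTheory CategoryTheory.Limits AlgebraicGeometry IsLocalRing

namespace Groth.Agent.CAlg9.CIT

theorem fiber_point_eq {X S : Scheme.{u}} (f : X ⟶ S) {s : S} (z : f.fiber s) :
    f (f.fiberι s z) = s := by
  rw [← Scheme.Hom.comp_apply, Scheme.Hom.fiber_fac, Scheme.Hom.comp_apply, Scheme.fromSpecResidueField_apply]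

theorem dim_fiber_eq {X S : Scheme.{u}} (f : X ⟶ S) {s : S} (z : f.fiber s) (x : X) (hx : f.fiberι s z = x) :
    ringKrullDim ((f.fiber s).presheaf.stalk z) = ringKrullDim (CInt.fiberStalk f x) := by
  obtain rfl : f x = s := by rw [← hx]; exact fiber_point_eq f z
  rw [show z = f.asFiber x from (f.fiberι _).isEmbedding.injective (hx.trans (f.fiberι_asFiber x).symm)]

theorem fiber_stalk_noetherian {X S : Scheme.{u}} [IsLocallyNoetherian X] (f : X ⟶ S) {s : S} (z : f.fiber s) :
    IsNoetherianRing ((f.fiber s).presheaf.stalk z) :=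
  isNoetherianRing_of_surjective (X.presheaf.stalk (f.fiberι s z)) _ ((f.fiberι s).stalkMap z).hom
    ((f.fiberι s).stalkMap_surjective z)

section

variable {X S X' S' : Scheme.{u}} [IsLocallyNoetherian X] [IsLocallyNoetherian X'] {p : X' ⟶ X}
  {f' : X' ⟶ S'} {f : X ⟶ S} {g : S' ⟶ S}

theorem dim_stalk_le_fiber_map (h : IsPullback p f' f g) (s' : S') (z : f'.fiber s') :
    let m : f'.fiber s' ⟶ f.fiber (g s') :=
      pullback.map _ _ _ _ p (Spec.map (g.residueFieldMap s')) g h.w.symm (by simp)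
    Flat m ∧ Surjective m ∧
      ringKrullDim ((f.fiber (g s')).presheaf.stalk (m z)) ≤ ringKrullDim ((f'.fiber s').presheaf.stalk z) ∧
      (ringKrullDim (CInt.fiberStalk m z) = 0 →
        ringKrullDim ((f.fiber (g s')).presheaf.stalk (m z)) = ringKrullDim ((f'.fiber s').presheaf.stalk z)) := by
  intro m
  have H : IsPullback m (f'.fiberToSpecResidueField s') (f.fiberToSpecResidueField (g s'))
      (Spec.map (g.residueFieldMap s')) := isPullback_fiberToSpecResidueField_of_isPullback h s'
  have hflat : Flat (Spec.map (g.residueFieldMap s')) := by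
    rw [HasRingHomProperty.Spec_iff (P := @Flat)]
    algebraize [(g.residueFieldMap s').hom]
    exact RingHom.flat_algebraMap_iff.2 inferInstance
  have hsurj : Surjective (Spec.map (g.residueFieldMap s')) :=
    ⟨fun y => ⟨closedPoint (S'.residueField s'), Subsingleton.elim (α := PrimeSpectrum _) _ _⟩⟩
  have h1 : Flat m := MorphismProperty.of_isPullback H.flip hflat
  have h2 : Surjective m := MorphismProperty.of_isPullback H.flip hsurj
  refine ⟨h1, h2, ?_⟩
  have := fiber_stalk_noetherian f' z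
  have := fiber_stalk_noetherian f (m z)
  let := (m.stalkMap z).hom.toAlgebra
  have : IsLocalHom (algebraMap ((f.fiber (g s')).presheaf.stalk (m z)) ((f'.fiber s').presheaf.stalk z)) :=
    m.toLRSHom.prop z
  have : Module.Flat ((f.fiber (g s')).presheaf.stalk (m z)) ((f'.fiber s').presheaf.stalk z) :=
    Flat.stalkMap m z
  rw [RelGCI94.ringKrullDim_eq_add_of_flat (R := (f.fiber (g s')).presheaf.stalk (m z))
    (S := (f'.fiber s').presheaf.stalk z)]
  have e : ringKrullDim (((f'.fiber s').presheaf.stalk z) ⧸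
      (maximalIdeal ((f.fiber (g s')).presheaf.stalk (m z))).map
        (algebraMap ((f.fiber (g s')).presheaf.stalk (m z)) ((f'.fiber s').presheaf.stalk z))) =
      ringKrullDim (CInt.fiberStalk m z) := ringKrullDim_eq_of_ringEquiv (fiberStalkEquiv m z)
  refine ⟨le_add_of_nonneg_right (e ▸ ringKrullDim_nonneg_of_nontrivial), fun h0 => ?_⟩
  rw [e, h0, add_zero]

theorem dim_fiberStalk_le_baseChange (h : IsPullback p f' f g) (x' : X') :
    ringKrullDim (CInt.fiberStalk f (p x')) ≤ ringKrullDim (CInt.fiberStalk f' x') := by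
  have key := dim_stalk_le_fiber_map h (f' x') (f'.asFiber x')
  let m : f'.fiber (f' x') ⟶ f.fiber (g (f' x')) :=
    pullback.map _ _ _ _ p (Spec.map (g.residueFieldMap (f' x'))) g h.w.symm (by simp)
  have hm : f.fiberι _ (m (f'.asFiber x')) = p x' := by
    rw [← Scheme.Hom.comp_apply, show m ≫ f.fiberι _ = f'.fiberι _ ≫ p from pullback.lift_fst _ _ _,
      Scheme.Hom.comp_apply, Scheme.Hom.fiberι_asFiber]
  rw [← dim_fiber_eq f (m (f'.asFiber x')) (p x') hm]
  exact key.2.2.1

theorem exists_dim_fiberStalk_baseChange_eq (h : IsPullback p f' f g) (x : X) (hx : x ∈ Set.range p) :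
    ∃ x' : X', p x' = x ∧ ringKrullDim (CInt.fiberStalk f' x') = ringKrullDim (CInt.fiberStalk f x) := by
  obtain ⟨x₀, rfl⟩ := hx
  let m : f'.fiber (f' x₀) ⟶ f.fiber (g (f' x₀)) :=
    pullback.map _ _ _ _ p (Spec.map (g.residueFieldMap (f' x₀))) g h.w.symm (by simp)
  have key := dim_stalk_le_fiber_map h (f' x₀) (f'.asFiber x₀)
  have : Surjective m := key.2.1
  obtain ⟨z, hz, h0⟩ := exists_dim_fiberStalk_eq_zero m (m (f'.asFiber x₀))
  have hm : ∀ w, f.fiberι _ (m w) = p (f'.fiberι _ w) := fun w => by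
    rw [← Scheme.Hom.comp_apply, show m ≫ f.fiberι _ = f'.fiberι _ ≫ p from pullback.lift_fst _ _ _,
      Scheme.Hom.comp_apply]
  have hp : p (f'.fiberι _ z) = p x₀ := by rw [← hm, hz, hm, Scheme.Hom.fiberι_asFiber]
  refine ⟨f'.fiberι _ z, hp, ?_⟩
  rw [← dim_fiber_eq f' z _ rfl, ← dim_fiber_eq f (m z) (p x₀) (by rw [hm, hp])]
  exact ((dim_stalk_le_fiber_map h (f' x₀) z).2.2.2 h0).symm

end

end Groth.Agent.CAlg9.CIT
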