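import Groth.Agent.CAlg9.CIT.Spread

/-!
Generators of an ideal which is regular at a prime, near that prime.
-/

set_option autoImplicit false
universe u

open IsLocalRing RingTheory.Sequence

namespace Groth.Agent.CAlg9.CIT

variable {B : Type u} [CommRing B]

/-- `s` witnesses that `gs` is a regular generating sequence of `I` after inverting `s` -/
structure GoodGens (I : Ideal B) (gs : List B) (s : B) : Prop where
  le : Ideal.ofList gs ≤ I
  gen : ∀ x ∈ I, s * x ∈ Ideal.ofList gs
  colon : ∀ (i : ℕ) (hi : i < gs.length) (x : B), gs[i] * x ∈ Ideal.ofList (gs.take i) → s * x ∈ Ideal.ofList (gs.take i)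

theorem exists_mul_mem [IsNoetherianRing B] (q : Ideal B) [q.IsPrime] (K J : Ideal B)
    (h : K.map (algebraMap B (Localization.AtPrime q)) ≤ J.map (algebraMap B (Localization.AtPrime q))) :
    ∃ t ∉ q, ∀ x ∈ K, t * x ∈ J := by
  classical
  obtain ⟨G, hG⟩ := IsNoetherian.noetherian K
  have hG' : ∀ x ∈ G, ∃ t ∉ q, t * x ∈ J := fun x hx =>
    (algebraMap_mem_map_iff q _ x).1 (h (Ideal.mem_map_of_mem _ (hG ▸ Submodule.subset_span hx)))
  choose t ht htx using hG'
  refine ⟨∏ x : G, t x.1 x.2, fun hm => ?_, fun x hx => ?_⟩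
  · obtain ⟨x, -, hx⟩ := Ideal.IsPrime.prod_mem_iff.1 hm
    exact ht x.1 x.2 hx
  · have hx' : x ∈ Submodule.span B (G : Set B) := by rw [hG]; exact hx
    have hle : Submodule.span B (G : Set B) ≤
        Submodule.comap (LinearMap.mulLeft B (∏ y : G, t y.1 y.2)) J := Submodule.span_le.2 fun y hy => by
      show (∏ z : G, t z.1 z.2) * y ∈ J
      rw [← Finset.mul_prod_erase _ _ (Finset.mem_univ (⟨y, hy⟩ : G)), mul_comm (t y hy), mul_assoc]
      exact Ideal.mul_mem_left _ _ (htx y hy)
    exact hle hx'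

/-- regular sequences at a prime: the colon ideals are killed near the prime -/
theorem exists_colon [IsNoetherianRing B] (q : Ideal B) [q.IsPrime] (gs : List B)
    (h : IsWeaklyRegular (Localization.AtPrime q) (gs.map (algebraMap B (Localization.AtPrime q)))) :
    ∃ s ∉ q, ∀ (i : ℕ) (hi : i < gs.length) (x : B),
      gs[i] * x ∈ Ideal.ofList (gs.take i) → s * x ∈ Ideal.ofList (gs.take i) := by
  classical
  rw [isWeaklyRegular_iff_elem] at h
  have hK : ∀ i : Fin gs.length, ∃ s ∉ q, ∀ x : B, gs[i] * x ∈ Ideal.ofList (gs.take i) →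
      s * x ∈ Ideal.ofList (gs.take i) := fun i => by
    let K : Ideal B := Submodule.comap (LinearMap.mulLeft B gs[i]) (Ideal.ofList (gs.take i))
    refine exists_mul_mem q K _ (Ideal.map_le_iff_le_comap.2 fun x hx => ?_)
    have hxK : gs[i] * x ∈ Ideal.ofList (gs.take i) := hx
    have := Ideal.mem_map_of_mem (algebraMap B (Localization.AtPrime q)) hxK
    rw [Ideal.map_ofList, List.map_take, map_mul] at this
    rw [Ideal.mem_comap, Ideal.map_ofList, List.map_take]
    exact h ⟨i, by simp⟩ _ (by simpa using this)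
  choose s hs hsx using hK
  refine ⟨∏ i, s i, fun hm => ?_, fun i hi x hx => ?_⟩
  · obtain ⟨i, -, hi⟩ := Ideal.IsPrime.prod_mem_iff.1 hm
    exact hs i hi
  · rw [← Finset.mul_prod_erase _ _ (Finset.mem_univ (⟨i, hi⟩ : Fin gs.length)),
      mul_comm (s _), mul_assoc]
    exact Ideal.mul_mem_left _ _ (hsx ⟨i, hi⟩ x hx)

theorem exists_goodGens [IsNoetherianRing B] (I : Ideal B) (q : Ideal B) [q.IsPrime]
    (S : Type u) [CommRing S] [Algebra B S] [IsLocalization.AtPrime S q]
    (h : CInt.IsRegularIdeal (I.map (algebraMap B S))) : ∃ gs s, s ∉ q ∧ GoodGens I gs s := by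
  classical
  have : IsLocalRing S := IsLocalization.AtPrime.isLocalRing S q
  have : IsNoetherianRing S := IsLocalization.isNoetherianRing q.primeCompl S inferInstance
  obtain ⟨rs, hrs, hspan⟩ := h
  have hl : ∀ r : S, ∃ b : B, r ∈ I.map (algebraMap B S) →
      b ∈ I ∧ ∃ u : q.primeCompl, r * algebraMap B S u = algebraMap B S b := fun r => by
    by_cases hr : r ∈ I.map (algebraMap B S)
    · obtain ⟨⟨⟨b, hb⟩, u⟩, hbu⟩ := (IsLocalization.mem_map_algebraMap_iff q.primeCompl _).1 hr
      exact ⟨b, fun _ => ⟨hb, u, hbu⟩⟩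
    · exact ⟨0, fun h => absurd h hr⟩
  choose g hgu using hl
  have hrI : ∀ r ∈ rs, r ∈ I.map (algebraMap B S) := fun r hr => hspan ▸ Ideal.subset_span hr
  let gs := rs.map g
  have hgI : Ideal.ofList gs ≤ I := Ideal.span_le.2 fun b hb => by
    obtain ⟨r, hr, rfl⟩ := List.mem_map.1 hb
    exact (hgu r (hrI r hr)).1
  let a : Fin rs.length → S := rs.get
  let b : Fin rs.length → S := fun i => algebraMap B _ (g (rs.get i))
  have hl : List.ofFn a = rs := List.ofFn_get rs
  have hbl : List.ofFn b = gs.map (algebraMap B S) := by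
    conv_rhs => rw [show gs = rs.map g from rfl, ← hl, List.map_ofFn, List.map_ofFn]
    rfl
  have hab : Ideal.span (Set.range a) = Ideal.span (Set.range b) := by
    refine le_antisymm (Ideal.span_le.2 ?_) (Ideal.span_le.2 ?_)
    · rintro _ ⟨i, rfl⟩
      obtain ⟨u, h1⟩ := (hgu _ (hrI _ (List.get_mem rs i))).2
      rw [SetLike.mem_coe, ← Ideal.unit_mul_mem_iff_mem _ (IsLocalization.map_units _ u), mul_comm, h1]
      exact Ideal.subset_span ⟨i, rfl⟩
    · rintro _ ⟨i, rfl⟩
      show algebraMap B _ (g (rs.get i)) ∈ _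
      obtain ⟨u, h1⟩ := (hgu _ (hrI _ (List.get_mem rs i))).2
      rw [← h1]
      exact Ideal.mul_mem_right _ _ (Ideal.subset_span ⟨i, rfl⟩)
  have hb : IsRegular S (List.ofFn b) := S0611.result a b (hl.symm ▸ hrs) hab
  let e : S ≃ₐ[B] Localization.AtPrime q := IsLocalization.algEquiv q.primeCompl _ _
  have hb1 : IsWeaklyRegular (Localization.AtPrime q) (gs.map (algebraMap B (Localization.AtPrime q))) := by
    rw [isWeaklyRegular_map_algebraMap_iff]
    have h1 := hb.1
    rw [hbl, isWeaklyRegular_map_algebraMap_iff] at h1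
    exact (e.toLinearEquiv.isWeaklyRegular_congr gs).1 h1
  obtain ⟨s₁, hs₁, hs₁'⟩ := exists_colon q gs hb1
  have hgen : I.map (algebraMap B S) ≤ (Ideal.ofList gs).map (algebraMap B S) := by
    rw [Ideal.map_ofList, ← hbl, RegSeq.ofList_ofFn, ← hab, ← RegSeq.ofList_ofFn, hl, hspan]
  have hgen' := Ideal.map_mono (f := e.toRingEquiv.toRingHom) hgen
  rw [Ideal.map_map, Ideal.map_map] at hgen'
  rw [show e.toRingEquiv.toRingHom.comp (algebraMap B S) = algebraMap B _ from RingHom.ext e.commutes] at hgen'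
  obtain ⟨s₂, hs₂, hs₂'⟩ := exists_mul_mem q I _ hgen'
  refine ⟨gs, s₁ * s₂, fun hm => (‹q.IsPrime›.mem_or_mem hm).elim hs₁ hs₂, hgI, fun x hx => ?_, fun i hi x hx => ?_⟩
  · rw [mul_assoc]; exact Ideal.mul_mem_left _ _ (hs₂' x hx)
  · rw [mul_comm s₁, mul_assoc]; exact Ideal.mul_mem_left _ _ (hs₁' i hi x hx)

theorem GoodGens.localized {I : Ideal B} {gs : List B} {s : B} (hg : GoodGens I gs s) (M : Submonoid B)
    (S : Type u) [CommRing S] [Algebra B S] [IsLocalization M S] (hs : IsUnit (algebraMap B S s))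
    (hne : I.map (algebraMap B S) ≠ ⊤) :
    IsRegular S (gs.map (algebraMap B S)) ∧ Ideal.ofList (gs.map (algebraMap B S)) = I.map (algebraMap B S) := by
  have heq : Ideal.ofList (gs.map (algebraMap B S)) = I.map (algebraMap B S) := by
    rw [← Ideal.map_ofList]
    refine le_antisymm (Ideal.map_mono hg.le) (Ideal.map_le_iff_le_comap.2 fun x hx => ?_)
    rw [Ideal.mem_comap, ← Ideal.unit_mul_mem_iff_mem _ hs, ← map_mul]
    exact Ideal.mem_map_of_mem _ (hg.gen x hx)
  refine ⟨⟨(isWeaklyRegular_iff_elem _).2 fun i' y hy => ?_, ?_⟩, heq⟩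
  · let i : Fin gs.length := ⟨i', by simpa using i'.2⟩
    obtain ⟨⟨x, u⟩, hxu⟩ := IsLocalization.surj M y
    rw [← Ideal.unit_mul_mem_iff_mem _ (IsLocalization.map_units _ u), mul_comm, hxu, ← List.map_take,
      ← Ideal.map_ofList]
    have h2 : algebraMap B S (gs[i] * x) ∈ (Ideal.ofList (gs.take i)).map (algebraMap B S) := by
      rw [Ideal.map_ofList, List.map_take, map_mul, ← hxu, ← mul_assoc]
      refine Ideal.mul_mem_right _ _ ?_
      simpa [i] using hy
    obtain ⟨t, ht, htx⟩ := (IsLocalization.algebraMap_mem_map_algebraMap_iff M S _ _).1 h2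
    rw [← Ideal.unit_mul_mem_iff_mem _ hs, ← Ideal.unit_mul_mem_iff_mem _ (IsLocalization.map_units S ⟨t, ht⟩),
      ← map_mul, ← map_mul]
    refine Ideal.mem_map_of_mem _ ?_
    show t * (s * x) ∈ _
    rw [mul_left_comm]
    refine hg.colon i' i.2 (t * x) ?_
    rw [mul_left_comm]
    exact htx
  · rw [heq, Ideal.smul_eq_mul, Ideal.mul_top]
    exact hne.symm

theorem regular_map_localization [IsNoetherianRing B] {I : Ideal B} {rs : List B} (hr : IsRegular B rs)
    (hI : Ideal.ofList rs = I) (M : Submonoid B) (S : Type u) [CommRing S] [Algebra B S] [IsLocalization M S]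
    (hne : I.map (algebraMap B S) ≠ ⊤) : CInt.IsRegularIdeal (I.map (algebraMap B S)) := by
  have hg : GoodGens I rs 1 :=
    ⟨hI.le, fun x hx => by rw [one_mul, hI]; exact hx, fun i hi x hx => by
      rw [one_mul]; exact (isWeaklyRegular_iff_elem rs).1 hr.1 ⟨i, hi⟩ x hx⟩
  obtain ⟨h1, h2⟩ := hg.localized M S (by rw [map_one]; exact isUnit_one) hne
  exact ⟨_, h1, h2⟩

end Groth.Agent.CAlg9.CIT
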