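import Groth.Agent.CAlg9.CIT.Defect
import Groth.Prelude.Def_EGA4b

/-!
Complete intersections along flat local homomorphisms.
-/

set_option autoImplicit false
universe u

open IsLocalRing

namespace Groth.Agent.CAlg9.CIT

variable {R S : Type u} [CommRing R] [IsLocalRing R] [IsNoetherianRing R] [CommRing S] [IsLocalRing S]
  [IsNoetherianRing S] [Algebra R S] [IsLocalHom (algebraMap R S)] [Module.Flat R S]

theorem ci_of_flat' (J : Ideal S) (hJ : J = (maximalIdeal R).map (algebraMap R S)) [IsLocalRing (S ⧸ J)]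
    (hR : Pi1.IsCompleteIntersection R) (hF : Pi1.IsCompleteIntersection (S ⧸ J)) :
    Pi1.IsCompleteIntersection S := by
  obtain ⟨r, x, hx⟩ := exists_tuple R
  rw [← hx] at hJ
  subst hJ
  let J := (Ideal.span (Set.range x)).map (algebraMap R S)
  obtain ⟨t, yb, hyb⟩ := exists_tuple (S ⧸ J)
  choose y hy using fun j => Ideal.Quotient.mk_surjective (I := J) (yb j)
  obtain ⟨a, ha⟩ := exists_dim_eq R
  obtain ⟨b, hb⟩ := exists_dim_eq (S ⧸ J)
  obtain ⟨d, hd⟩ := exists_dim_eq S
  have hdim := RelGCI94.ringKrullDim_eq_add_of_flat (R := R) (S := S)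
  rw [← hx, hd, ha, show ringKrullDim (S ⧸ (Ideal.span (Set.range x)).map (algebraMap R S)) = b from hb] at hdim
  have hdab : d = a + b := by exact_mod_cast hdim
  have hJm : J ≤ maximalIdeal S := le_maximalIdeal (Ideal.Quotient.nontrivial_iff.1 inferInstance)
  have hg : Ideal.span (Set.range (Fin.append (fun i => algebraMap R S (x i)) y)) = maximalIdeal S := by
    have hJspan : J = Ideal.span (Set.range fun i => algebraMap R S (x i)) := by
      show Ideal.map _ _ = _
      rw [Ideal.map_span, ← Set.range_comp]; rfl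
    have hcomap : (maximalIdeal (S ⧸ J)).comap (Ideal.Quotient.mk J) = maximalIdeal S :=
      CAlg1.comap_maximalIdeal_of_surjective _ Ideal.Quotient.mk_surjective
    rw [← hcomap, ← hyb, show Ideal.span (Set.range yb) = (Ideal.span (Set.range y)).map (Ideal.Quotient.mk J) by
        rw [Ideal.map_span, ← Set.range_comp]; exact congrArg _ (congrArg Set.range (funext fun j => (hy j).symm)),
      Ideal.comap_map_of_surjective _ Ideal.Quotient.mk_surjective, ← RingHom.ker_eq_comap_bot, Ideal.mk_ker,
      hJspan, ← Ideal.span_union]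
    refine congrArg _ (Set.ext fun z => ⟨?_, ?_⟩)
    · rintro ⟨k, rfl⟩
      induction k using Fin.addCases with
      | left i => rw [Fin.append_left]; exact Or.inr ⟨i, rfl⟩
      | right j => rw [Fin.append_right]; exact Or.inl ⟨j, rfl⟩
    · rintro (⟨j, rfl⟩ | ⟨i, rfl⟩)
      · exact ⟨Fin.natAdd r j, Fin.append_right _ _ j⟩
      · exact ⟨Fin.castAdd t i, Fin.append_left _ _ i⟩
  have h1 := (tuple_le_and_iff R x hx a ha).2.2 hR
  have h2 := (tuple_le_and_iff (S ⧸ J) yb hyb b hb).2.2 hF
  obtain ⟨h3, h4⟩ := tuple_le_and_iff S _ hg d hd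
  have h5 := mu1_append_le (S := S) x y
  rw [show (fun j => Ideal.Quotient.mk ((Ideal.span (Set.range x)).map (algebraMap R S)) (y j)) = yb from funext hy] at h5
  refine h4.1 ?_
  push_cast at h3 ⊢
  omega

/-- flat local extension with complete intersection base and closed fibre -/
theorem ci_of_flat (hR : Pi1.IsCompleteIntersection R) (hF : Pi1.IsCompleteIntersection (EGA4.FibRing R S)) :
    Pi1.IsCompleteIntersection S :=
  ci_of_flat' (EGA4.mB R S) rfl hR hF

omit [IsNoetherianRing S] [Module.Flat R S] in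
theorem tuple_map {n : ℕ} (x : Fin n → R) (hx : Ideal.span (Set.range x) = maximalIdeal R)
    (hm : (maximalIdeal R).map (algebraMap R S) = maximalIdeal S) :
    Ideal.span (Set.range fun i => algebraMap R S (x i)) = maximalIdeal S := by
  rw [← hm, ← hx, Ideal.map_span, ← Set.range_comp]; rfl

/-- unramified flat local extensions preserve and reflect complete intersections -/
theorem ci_iff_of_map_maximalIdeal (hm : (maximalIdeal R).map (algebraMap R S) = maximalIdeal S) :
    Pi1.IsCompleteIntersection S ↔ Pi1.IsCompleteIntersection R := by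
  obtain ⟨r, x, hx⟩ := exists_tuple R
  obtain ⟨a, ha⟩ := exists_dim_eq R
  have hdS : ringKrullDim S = a := by
    rw [RelGCI94.ringKrullDim_eq_add_of_flat (R := R) (S := S), hm, ha]
    let : Field (S ⧸ maximalIdeal S) := Ideal.Quotient.field _
    rw [ringKrullDim_eq_zero_of_field, add_zero]
  rw [← (tuple_le_and_iff R x hx a ha).2, ← (tuple_le_and_iff S _ (tuple_map x hx hm) a hdS).2, mu1_baseChange]

/-- geometric depth is preserved by unramified flat local extensions -/
theorem delta_eq_of_map_maximalIdeal (hm : (maximalIdeal R).map (algebraMap R S) = maximalIdeal S)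
    {B B' : Type u} [CommRing B] [IsRegularLocalRing B] [CommRing B'] [IsRegularLocalRing B']
    (I : Ideal B) (I' : Ideal B') (φ : AdicCompletion (maximalIdeal R) R ≃+* B ⧸ I)
    (φ' : AdicCompletion (maximalIdeal S) S ≃+* B' ⧸ I') (e e' : ℕ) (he : ringKrullDim B = e)
    (he' : ringKrullDim B' = e') : (e : ℤ) - I.spanFinrank = (e' : ℤ) - I'.spanFinrank := by
  obtain ⟨r, x, hx⟩ := exists_tuple R
  have := noetherian_cpl R
  have := noetherian_cpl S
  let f := φ.symm.toRingHom.comp (Ideal.Quotient.mk I)
  let f' := φ'.symm.toRingHom.comp (Ideal.Quotient.mk I')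
  have h1 := tuple_formula B f (φ.symm.surjective.comp Ideal.Quotient.mk_surjective) e he r x hx
  have h2 := tuple_formula B' f' (φ'.symm.surjective.comp Ideal.Quotient.mk_surjective) e' he' r _ (tuple_map x hx hm)
  have k1 : RingHom.ker f = I := by
    ext z; simp [f, RingHom.mem_ker, Ideal.Quotient.eq_zero_iff_mem]
  have k2 : RingHom.ker f' = I' := by
    ext z; simp [f', RingHom.mem_ker, Ideal.Quotient.eq_zero_iff_mem]
  rw [k1] at h1
  rw [k2, mu1_baseChange] at h2
  omega

end Groth.Agent.CAlg9.CIT
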