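import Groth.Agent.CAlg9.CIT.Completion
import Mathlib.RingTheory.Flat.Basic
import Mathlib.LinearAlgebra.TensorProduct.Pi
import Mathlib.Algebra.Module.SpanRankOperations

/-!
First Koszul homology of generators of the maximal ideal: base change and change of generators.
-/

set_option autoImplicit false
universe u

open IsLocalRing TensorProduct

namespace Groth.Agent.CAlg9.CIT

/-- number of generators of the first Koszul homology -/
noncomputable def mu1 {A : Type u} [CommRing A] {n : ℕ} (x : Fin n → A) : ℕ :=
  (⊤ : Submodule A (H1 x)).spanFinrank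

variable {A : Type u} [CommRing A] {n : ℕ}

theorem triv_le_rels (x : Fin n → A) : triv x ≤ rels x := by
  rw [triv, Submodule.span_le]
  rintro _ ⟨i, j, rfl⟩
  rw [SetLike.mem_coe, rels, LinearMap.mem_ker, map_sub, map_smul, map_smul,
    Fintype.linearCombination_apply_single, Fintype.linearCombination_apply_single]
  simp [mul_comm]

theorem smul_mem_triv (x : Fin n → A) (a : Fin n → A) (ha : a ∈ rels x) (c : A)
    (hc : c ∈ Ideal.span (Set.range x)) : c • a ∈ triv x := by
  obtain ⟨d, rfl⟩ := Ideal.mem_span_range_iff_exists_fun.1 hc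
  rw [Finset.sum_smul]
  refine sum_mem fun l _ => ?_
  rw [mul_smul]
  refine Submodule.smul_mem _ _ ?_
  have h0 := mem_rels.1 ha
  have : x l • a = ∑ i, a i • (x l • (Pi.single i 1 : Fin n → A) - x i • (Pi.single l 1 : Fin n → A)) := by
    simp only [smul_sub, smul_smul, Finset.sum_sub_distrib, ← Finset.sum_smul]
    rw [show (∑ i, a i * x i) = 0 from h0, zero_smul, sub_zero]
    funext k
    simp [Finset.sum_apply, Pi.single_apply, mul_comm]
  rw [this]
  exact sum_mem fun i _ => Submodule.smul_mem _ _ (Submodule.subset_span ⟨i, l, rfl⟩)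

theorem smul_H1_eq_zero (x : Fin n → A) (c : A) (hc : c ∈ Ideal.span (Set.range x)) (h : H1 x) : c • h = 0 := by
  obtain ⟨a, rfl⟩ := Submodule.Quotient.mk_surjective _ h
  rw [← Submodule.Quotient.mk_smul, Submodule.Quotient.mk_eq_zero]
  exact smul_mem_triv x a.1 a.2 c hc

theorem mu1_le_of_gens [IsNoetherianRing A] (x : Fin n → A) (s : Finset (Fin n → A))
    (hs : ∀ a ∈ s, a ∈ rels x) (hle : rels x ≤ Submodule.span A (s : Set (Fin n → A)) ⊔ triv x) :
    mu1 x ≤ s.card := by
  classical
  let w : s → H1 x := fun a => Submodule.Quotient.mk ⟨a.1, hs a.1 a.2⟩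
  have htop : Submodule.span A (Set.range w) = ⊤ := by
    refine top_le_iff.1 fun h _ => ?_
    obtain ⟨⟨a, ha⟩, rfl⟩ := Submodule.Quotient.mk_surjective _ h
    obtain ⟨b, hb, t, ht, hbt⟩ := Submodule.mem_sup.1 (hle ha)
    obtain ⟨g, -, hg⟩ := Submodule.mem_span_finset.1 hb
    have : (Submodule.Quotient.mk ⟨a, ha⟩ : H1 x) = ∑ c : s, g c • w c := by
      simp only [w, ← Submodule.mkQ_apply, ← map_smul, ← map_sum]
      refine (Submodule.Quotient.eq _).2 ?_
      rw [Submodule.mem_comap]
      convert ht using 1
      simp [← hbt, ← hg, ← Finset.sum_coe_sort s (fun c => g c • c)]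
    rw [this]
    exact sum_mem fun c _ => Submodule.smul_mem _ _ (Submodule.subset_span ⟨c, rfl⟩)
  rw [mu1, ← htop]
  refine (Submodule.spanFinrank_span_le_ncard_of_finite (Set.finite_range w)).trans ?_
  rw [← Nat.card_coe_set_eq]
  exact (Finite.card_range_le w).trans (by simp)

theorem exists_gens [IsNoetherianRing A] (x : Fin n → A) :
    ∃ s : Finset (Fin n → A), (∀ a ∈ s, a ∈ rels x) ∧ s.card ≤ mu1 x ∧
      rels x ≤ Submodule.span A (s : Set (Fin n → A)) ⊔ triv x := by
  classical
  obtain ⟨G, hG, hsp⟩ := (IsNoetherian.noetherian (⊤ : Submodule A (H1 x))).exists_span_finset_card_eq_spanFinrank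
  choose z hz using fun h : H1 x => Submodule.Quotient.mk_surjective _ h
  refine ⟨G.image fun h => (z h).1, fun a ha => ?_, Finset.card_image_le.trans hG.le, fun a ha => ?_⟩
  · obtain ⟨h, -, rfl⟩ := Finset.mem_image.1 ha
    exact (z h).2
  · obtain ⟨g, -, hg⟩ := Submodule.mem_span_finset.1
      (hsp ▸ Submodule.mem_top : (Submodule.Quotient.mk ⟨a, ha⟩ : H1 x) ∈ Submodule.span A (G : Set (H1 x)))
    refine Submodule.mem_sup.2 ⟨∑ h ∈ G, g h • (z h).1,
      sum_mem fun h hh => Submodule.smul_mem _ _ (Submodule.subset_span (Finset.mem_image_of_mem _ hh)),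
      a - ∑ h ∈ G, g h • (z h).1, ?_, add_sub_cancel _ _⟩
    have hh : (⟨a, ha⟩ : rels x) - ∑ h ∈ G, g h • z h ∈ (triv x).comap (rels x).subtype := by
      rw [← Submodule.Quotient.mk_eq_zero, Submodule.Quotient.mk_sub, ← Submodule.mkQ_apply,
        ← Submodule.mkQ_apply, map_sum]
      simp only [map_smul, Submodule.mkQ_apply, hz, hg, sub_self]
    simpa using hh

/-- rank of a base change to a local ring -/
theorem spanFinrank_baseChange {R S : Type u} [CommRing R] [IsLocalRing R] [CommRing S] [IsLocalRing S]
    [Algebra R S] [IsLocalHom (algebraMap R S)] (M : Type u) [AddCommGroup M] [Module R M] [Module.Finite R M] :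
    (⊤ : Submodule S (S ⊗[R] M)).spanFinrank = (⊤ : Submodule R M).spanFinrank := by
  rw [← TensorProduct.spanFinrank_top_eq_of_residueField (⊤ : Submodule R M) Module.Finite.fg_top,
    ← TensorProduct.spanFinrank_top_eq_of_residueField (⊤ : Submodule S (S ⊗[R] M)) Module.Finite.fg_top,
    ← Module.finrank_eq_spanFinrank_of_free, ← Module.finrank_eq_spanFinrank_of_free,
    (Submodule.topEquiv.baseChange R (ResidueField R)).finrank_eq,
    (Submodule.topEquiv.baseChange S (ResidueField S)).finrank_eq,
    (AlgebraTensorModule.cancelBaseChange R S (ResidueField S) _ _).finrank_eq,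
    ← (AlgebraTensorModule.cancelBaseChange R (ResidueField R) (ResidueField S) _ _).finrank_eq,
    Module.finrank_baseChange]

section BaseChange

variable {R S : Type u} [CommRing R] [CommRing S] [Algebra R S] [Module.Flat R S] (x : Fin n → R)

/-- relations after base change -/
noncomputable def relMap : S ⊗[R] rels x →ₗ[S] (Fin n → S) :=
  (TensorProduct.piScalarRight R S S (Fin n)).toLinearMap ∘ₗ (rels x).subtype.baseChange S

theorem relMap_tmul (a : rels x) (s : S) (i : Fin n) : relMap x (s ⊗ₜ a) i = s * algebraMap R S (a.1 i) := by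
  simp [relMap, Algebra.smul_def, mul_comm]

theorem relMap_injective : Function.Injective (relMap (S := S) x) :=
  (TensorProduct.piScalarRight R S S (Fin n)).injective.comp
    (Module.Flat.lTensor_preserves_injective_linearMap _ (rels x).injective_subtype)

theorem range_relMap : LinearMap.range (relMap (S := S) x) = rels (fun i => algebraMap R S (x i)) := by
  let φ := Fintype.linearCombination R x
  let e := TensorProduct.piScalarRight R S S (Fin n)
  have hex : Function.Exact ((rels x).subtype.lTensor S) (φ.lTensor S) :=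
    Module.Flat.lTensor_exact S (LinearMap.exact_subtype_ker_map φ)
  have hcomm : ∀ t : S ⊗[R] (Fin n → R),
      ∑ i, e t i * algebraMap R S (x i) = AlgebraTensorModule.rid R S S (φ.lTensor S t) := fun t => by
    induction t with
    | zero => simp
    | add a b ha hb => simp only [map_add, Pi.add_apply, add_mul, Finset.sum_add_distrib, ha, hb]
    | tmul s v =>
      simp [e, φ, Fintype.linearCombination_apply, Algebra.smul_def, Finset.mul_sum, mul_comm, mul_left_comm]
  ext v
  rw [mem_rels, show v = e (e.symm v) from (e.apply_symm_apply v).symm, hcomm]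
  simp only [LinearEquiv.map_eq_zero_iff]
  rw [hex (e.symm v)]
  constructor
  · rintro ⟨t, ht⟩
    exact ⟨t, e.injective ht⟩
  · rintro ⟨t, ht⟩
    exact ⟨t, by rw [← ht]; rfl⟩

theorem triv_le_map : triv (fun i => algebraMap R S (x i)) ≤
    LinearMap.range (relMap (S := S) x ∘ₗ (Submodule.inclusion (triv_le_rels x)).baseChange S) := by
  refine Submodule.span_le.2 ?_
  rintro _ ⟨i, j, rfl⟩
  refine ⟨1 ⊗ₜ ⟨x j • (Pi.single i 1 : Fin n → R) - x i • (Pi.single j 1 : Fin n → R),
    Submodule.subset_span ⟨i, j, rfl⟩⟩, funext fun k => ?_⟩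
  simp only [LinearMap.coe_comp, Function.comp_apply, LinearMap.baseChange_tmul, relMap_tmul, one_mul, Submodule.coe_inclusion]
  simp only [Pi.sub_apply, Pi.smul_apply, smul_eq_mul, map_sub, map_mul, Pi.single_apply]
  split_ifs <;> simp [Algebra.smul_def]

/-- first Koszul homology commutes with flat base change -/
theorem mu1_baseChange [IsLocalRing R] [IsLocalRing S] [IsNoetherianRing R] [IsLocalHom (algebraMap R S)] :
    mu1 (fun i => algebraMap R S (x i)) = mu1 x := by
  let y := fun i => algebraMap R S (x i)
  let Φ : S ⊗[R] rels x →ₗ[S] rels y :=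
    (relMap x).codRestrict (rels y) (fun t => range_relMap (S := S) x ▸ ⟨t, rfl⟩)
  let p : S ⊗[R] rels x →ₗ[S] H1 y := Submodule.mkQ _ ∘ₗ Φ
  let q : S ⊗[R] rels x →ₗ[S] S ⊗[R] H1 x := (Submodule.mkQ _).baseChange S
  have hq : Function.Surjective q := LinearMap.lTensor_surjective S (Submodule.mkQ_surjective _)
  have hp : Function.Surjective p := by
    intro h
    obtain ⟨⟨v, hv⟩, rfl⟩ := Submodule.Quotient.mk_surjective _ h
    obtain ⟨t, ht⟩ : v ∈ LinearMap.range (relMap (S := S) x) := by rw [range_relMap]; exact hv
    exact ⟨t, congrArg _ (Subtype.ext ht)⟩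
  have hkerq : LinearMap.ker q ≤ LinearMap.ker p := fun t ht => by
    have hex : Function.Exact (((triv x).comap (rels x).subtype).subtype.lTensor S)
        (((triv x).comap (rels x).subtype).mkQ.lTensor S) :=
      lTensor_exact S (LinearMap.exact_subtype_mkQ _) (Submodule.mkQ_surjective ((triv x).comap (rels x).subtype))
    obtain ⟨u, rfl⟩ := (hex t).1 ht
    induction u with
    | zero => simp
    | add a b ha hb =>
      rw [map_add]
      exact add_mem (ha (by
        show (Submodule.mkQ _).lTensor S (((triv x).comap (rels x).subtype).subtype.lTensor S a) = 0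
        rw [← LinearMap.comp_apply, hex.linearMap_comp_eq_zero]; rfl)) (hb (by
        show (Submodule.mkQ _).lTensor S (((triv x).comap (rels x).subtype).subtype.lTensor S b) = 0
        rw [← LinearMap.comp_apply, hex.linearMap_comp_eq_zero]; rfl))
    | tmul s a =>
      refine LinearMap.mem_ker.2 ?_
      show Submodule.Quotient.mk (Φ (s ⊗ₜ a.1)) = (0 : H1 y)
      rw [Submodule.Quotient.mk_eq_zero, Submodule.mem_comap]
      have ha : a.1.1 ∈ triv x := a.2
      have key : ∀ b ∈ triv x, (fun i => algebraMap R S (b i)) ∈ triv y := fun b hb => by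
        induction hb using Submodule.span_induction with
        | zero => rw [show (fun i => algebraMap R S ((0 : Fin n → R) i)) = 0 by funext i; simp]; exact zero_mem _
        | add u v _ _ hu hv =>
          rw [show (fun i => algebraMap R S ((u + v) i)) = (fun i => algebraMap R S (u i)) +
            fun i => algebraMap R S (v i) by funext i; simp]
          exact add_mem hu hv
        | smul c u _ hu =>
          rw [show (fun i => algebraMap R S ((c • u) i)) = algebraMap R S c • fun i => algebraMap R S (u i) by
            funext i; simp]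
          exact Submodule.smul_mem _ _ hu
        | mem v hv =>
          obtain ⟨i, j, rfl⟩ := hv
          refine Submodule.subset_span ⟨i, j, funext fun k => ?_⟩
          simp only [y, Pi.sub_apply, Pi.smul_apply, smul_eq_mul, map_sub, map_mul, Pi.single_apply]
          split_ifs <;> simp [Algebra.smul_def]
      have : (Φ (s ⊗ₜ a.1) : Fin n → S) = s • fun i => algebraMap R S (a.1.1 i) := funext fun i => by
        show relMap x (s ⊗ₜ a.1) i = _
        rw [relMap_tmul]; rfl
      show (Φ (s ⊗ₜ a.1) : Fin n → S) ∈ triv y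
      rw [this]
      exact Submodule.smul_mem _ _ (key _ ha)
  have hkerp : LinearMap.ker p ≤ LinearMap.ker q := fun t ht => by
    have h1 : (Φ t : Fin n → S) ∈ triv y := by
      have h2 : (Submodule.Quotient.mk (Φ t) : H1 y) = 0 := ht
      rw [Submodule.Quotient.mk_eq_zero] at h2
      exact h2
    obtain ⟨u, hu⟩ := triv_le_map x h1
    have htu : (Submodule.inclusion (triv_le_rels x)).baseChange S u = t := relMap_injective x hu
    rw [← htu]
    clear hu htu
    induction u with
    | zero => simp
    | add a b ha hb => rw [map_add]; exact add_mem ha hb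
    | tmul s a =>
      refine LinearMap.mem_ker.2 ?_
      show s ⊗ₜ[R] Submodule.Quotient.mk (Submodule.inclusion (triv_le_rels x) a) = (0 : S ⊗[R] H1 x)
      rw [show (Submodule.Quotient.mk (Submodule.inclusion (triv_le_rels x) a) : H1 x) = 0 from
        (Submodule.Quotient.mk_eq_zero _).2 a.2, TensorProduct.tmul_zero]
  let e : H1 y ≃ₗ[S] S ⊗[R] H1 x := (p.quotKerEquivOfSurjective hp).symm.trans
    ((Submodule.quotEquivOfEq _ _ (le_antisymm hkerp hkerq)).trans (q.quotKerEquivOfSurjective hq))
  show (⊤ : Submodule S (H1 y)).spanFinrank = _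
  rw [← Submodule.spanFinrank_map_eq_of_injective e.toLinearMap e.injective, Submodule.map_top,
    LinearEquiv.range, spanFinrank_baseChange]
  rfl

end BaseChange

end Groth.Agent.CAlg9.CIT
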