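import Groth.Agent.CAlg9.CIT.H1Basic
import Mathlib.Data.Fin.Tuple.Basic

/-!
`n − μ(H1)` is independent of the generators of the maximal ideal.
-/

set_option autoImplicit false
universe u

open IsLocalRing

namespace Groth.Agent.CAlg9.CIT

variable {A : Type u} [CommRing A] [IsLocalRing A] [IsNoetherianRing A] {n : ℕ}

theorem exists_redundant (g : Fin n → A) (hn : (Ideal.span (Set.range g)).spanFinrank < n) :
    ∃ i, g i ∈ Ideal.span (g '' {l | l ≠ i}) := by
  classical
  by_contra hno
  push Not at hno
  let K := Ideal.span (Set.range g)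
  have hmin : ∀ c : Fin n → A, ∑ i, c i * g i ∈ maximalIdeal A * K → ∀ i, c i ∈ maximalIdeal A := fun c hc i => by
    by_contra hu
    refine hno i ?_
    let G := Ideal.span (g '' {l | l ≠ i})
    have h1 : c i * g i ∈ G ⊔ maximalIdeal A • K := by
      rw [show c i * g i = ∑ l, c l * g l - ∑ l ∈ Finset.univ.erase i, c l * g l by
        rw [← Finset.add_sum_erase _ _ (Finset.mem_univ i)]; ring]
      exact sub_mem (Submodule.mem_sup_right hc) (Submodule.mem_sup_left
        (sum_mem fun l hl => G.mul_mem_left _ (Ideal.subset_span ⟨l, (Finset.mem_erase.1 hl).1, rfl⟩)))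
    have h1' := (Ideal.unit_mul_mem_iff_mem _ (notMem_maximalIdeal.1 hu)).1 h1
    have hle : K ≤ G ⊔ maximalIdeal A • K := Ideal.span_le.2 (by
      rintro _ ⟨l, rfl⟩
      by_cases hl : l = i
      · exact hl ▸ h1'
      · exact Submodule.mem_sup_left (Ideal.subset_span ⟨l, hl, rfl⟩))
    exact Submodule.le_of_le_smul_of_le_jacobson_bot (IsNoetherian.noetherian _)
      (maximalIdeal_le_jacobson ⊥) hle (Ideal.subset_span ⟨i, rfl⟩)
  obtain ⟨r, h, -, -, hr⟩ := RegSeq.extend_minimal K ⊥ bot_le g
    (fun i => Ideal.subset_span ⟨i, rfl⟩) le_sup_right hmin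
  have : K.spanFinrank < n := hn
  omega

theorem mu1_succAbove (g : Fin (n + 1) → A) (hg : Ideal.span (Set.range g) = maximalIdeal A) (i : Fin (n + 1))
    (c : Fin n → A) (hc : ∑ l, c l * g (i.succAbove l) = g i) :
    mu1 g = mu1 (fun l => g (i.succAbove l)) + 1 := by
  classical
  let g' : Fin n → A := fun l => g (i.succAbove l)
  have hg' : Ideal.span (Set.range g') = maximalIdeal A := by
    refine le_antisymm (hg ▸ Ideal.span_mono (Set.range_comp_subset_range i.succAbove g)) ?_
    rw [← hg, Ideal.span_le]
    rintro _ ⟨j, rfl⟩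
    induction j using Fin.succAboveCases i with
    | x => rw [← hc]; exact sum_mem fun l _ => Ideal.mul_mem_left _ _ (Ideal.subset_span ⟨l, rfl⟩)
    | p l => exact Ideal.subset_span ⟨l, rfl⟩
  let π : (Fin (n + 1) → A) →ₗ[A] (Fin n → A) :=
    LinearMap.funLeft A A i.succAbove + (LinearMap.proj i).smulRight c
  let E : (Fin n → A) →ₗ[A] (Fin (n + 1) → A) :=
    { toFun := fun v => Fin.insertNth i 0 v
      map_add' := fun v w => by funext j; induction j using Fin.succAboveCases i <;> simp
      map_smul' := fun r v => by funext j; induction j using Fin.succAboveCases i <;> simp }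
  let w : Fin (n + 1) → A := Fin.insertNth i 1 (-c)
  have hπ : ∀ a l, π a l = a (i.succAbove l) + a i * c l := fun a l => by simp [π, LinearMap.funLeft]
  have hdec : ∀ a, a = E (π a) + a i • w := fun a => by
    funext j
    induction j using Fin.succAboveCases i with
    | x => simp [E, w]
    | p l => simp [E, w, hπ]
  have hπE : ∀ v, π (E v) = v := fun v => funext fun l => by simp [hπ, E]
  have hsum : ∀ a : Fin (n + 1) → A, ∑ j, a j * g j = ∑ l, π a l * g' l := fun a => by
    rw [Fin.sum_univ_succAbove _ i, ← hc, Finset.mul_sum, ← Finset.sum_add_distrib]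
    exact Finset.sum_congr rfl fun l _ => by rw [hπ]; ring
  have hπrel : ∀ a ∈ rels g, π a ∈ rels g' := fun a ha => mem_rels.2 ((hsum a).symm.trans (mem_rels.1 ha))
  have hErel : ∀ v ∈ rels g', E v ∈ rels g := fun v hv => mem_rels.2 (by rw [hsum, hπE]; exact mem_rels.1 hv)
  have hwrel : w ∈ rels g := mem_rels.2 (by
    rw [hsum, show π w = 0 from funext fun l => by simp [hπ, w]]; simp)
  have hEtriv : (triv g').map E ≤ triv g := by
    rw [triv, Submodule.map_span, Submodule.span_le]
    rintro _ ⟨_, ⟨p, q, rfl⟩, rfl⟩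
    have hs : ∀ p : Fin n, E (Pi.single p 1) = Pi.single (i.succAbove p) 1 := fun p => by
      funext j
      induction j using Fin.succAboveCases i with
      | x => simp [E, Pi.single_eq_of_ne (Fin.succAbove_ne i p).symm]
      | p l => simp [E, Pi.single_apply, (Fin.succAbove_right_injective (p := i)).eq_iff]
    exact Submodule.subset_span ⟨i.succAbove p, i.succAbove q, by rw [map_sub, map_smul, map_smul, hs, hs]⟩
  have hπsingle : ∀ l : Fin n, π (Pi.single (i.succAbove l) 1) = Pi.single l 1 := fun l => funext fun p => by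
    rw [hπ, Pi.single_eq_of_ne (Fin.succAbove_ne i l).symm (M := fun _ => A)]
    simp [Pi.single_apply, (Fin.succAbove_right_injective (p := i)).eq_iff]
  have hπi : π (Pi.single i 1) = c := funext fun p => by
    rw [hπ, Pi.single_eq_of_ne (Fin.succAbove_ne i p) (M := fun _ => A)]
    simp
  have hπtriv : (triv g).map π ≤ triv g' := by
    rw [triv, Submodule.map_span, Submodule.span_le]
    rintro _ ⟨_, ⟨j, k, rfl⟩, rfl⟩
    have key : ∀ l : Fin n, g' l • c - g i • (Pi.single l 1 : Fin n → A) ∈ triv g' := fun l => by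
      have : g' l • c - g i • (Pi.single l 1 : Fin n → A) =
          ∑ p, c p • (g' l • (Pi.single p 1 : Fin n → A) - g' p • (Pi.single l 1 : Fin n → A)) := by
        simp only [smul_sub, smul_smul, Finset.sum_sub_distrib, ← Finset.sum_smul]
        rw [show ∑ p, c p * g' p = g i from hc]
        congr 1
        funext q
        simp [Finset.sum_apply, Pi.single_apply, mul_comm]
      rw [this]
      exact sum_mem fun p _ => Submodule.smul_mem _ _ (Submodule.subset_span ⟨p, l, rfl⟩)
    rw [SetLike.mem_coe, map_sub, map_smul, map_smul]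
    induction j using Fin.succAboveCases i with
    | x =>
      induction k using Fin.succAboveCases i with
      | x => rw [sub_self]; exact zero_mem _
      | p l => rw [hπi, hπsingle]; exact key l
    | p l =>
      induction k using Fin.succAboveCases i with
      | x => rw [hπi, hπsingle, ← neg_sub]; exact neg_mem (key l)
      | p q => rw [hπsingle, hπsingle]; exact Submodule.subset_span ⟨l, q, rfl⟩
  refine le_antisymm ?_ ?_
  · obtain ⟨G, hG, hcard, hle⟩ := exists_gens g'
    refine (mu1_le_of_gens g (insert w (G.image E)) ?_ fun a ha => ?_).trans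
      ((Finset.card_insert_le _ _).trans (Nat.succ_le_succ (Finset.card_image_le.trans hcard)))
    · intro a ha
      rcases Finset.mem_insert.1 ha with rfl | ha
      · exact hwrel
      · obtain ⟨v, hv, rfl⟩ := Finset.mem_image.1 ha
        exact hErel v (hG v hv)
    · have h1 : E (π a) ∈ Submodule.span A (↑(insert w (G.image E)) : Set _) ⊔ triv g := by
        have h2 := Submodule.mem_map_of_mem (f := E) (hle (hπrel a ha))
        rw [Submodule.map_sup, Submodule.map_span] at h2
        refine sup_le_sup (Submodule.span_mono ?_) hEtriv h2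
        rw [Finset.coe_insert, Finset.coe_image]
        exact Set.subset_insert _ _
      rw [hdec a]
      exact add_mem h1 (Submodule.mem_sup_left (Submodule.smul_mem _ _
        (Submodule.subset_span (Finset.mem_insert_self _ _))))
  · obtain ⟨G, hG, hcard, hle⟩ := exists_gens g
    have htrivi : ∀ t ∈ triv g, t i ∈ maximalIdeal A := fun t ht => by
      have : triv g ≤ Submodule.comap (LinearMap.proj i : (Fin (n+1) → A) →ₗ[A] A) (maximalIdeal A) := by
        rw [triv, Submodule.span_le]
        rintro _ ⟨j, k, rfl⟩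
        show (g k • (Pi.single j 1 : Fin (n+1) → A) - g j • (Pi.single k 1 : Fin (n+1) → A)) i ∈ maximalIdeal A
        simp only [Pi.sub_apply, Pi.smul_apply, smul_eq_mul]
        exact sub_mem (Ideal.mul_mem_right _ _ (hg ▸ Ideal.subset_span ⟨k, rfl⟩))
          (Ideal.mul_mem_right _ _ (hg ▸ Ideal.subset_span ⟨j, rfl⟩))
      exact this ht
    obtain ⟨a₀, ha₀, hu₀⟩ : ∃ a ∈ G, IsUnit (a i) := by
      by_contra hno
      push Not at hno
      obtain ⟨b, hb, t, ht, hbt⟩ := Submodule.mem_sup.1 (hle hwrel)
      have hb' : b i ∈ maximalIdeal A :=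
        (Submodule.span_le (p := Submodule.comap (LinearMap.proj i : (Fin (n+1) → A) →ₗ[A] A) (maximalIdeal A))).2
          (fun a ha => (mem_maximalIdeal _).2 (hno a ha)) hb
      have h1 : w i ∈ maximalIdeal A := by
        rw [← hbt, Pi.add_apply]
        exact add_mem hb' (htrivi t ht)
      simp [w] at h1
    obtain ⟨u, hu⟩ := hu₀
    let r : (Fin (n + 1) → A) → A := fun a => a i * ↑u⁻¹
    let G' := (G.erase a₀).image fun a => π (a - r a • a₀)
    have hG' : ∀ v ∈ G', v ∈ rels g' := fun v hv => by
      obtain ⟨a, ha, rfl⟩ := Finset.mem_image.1 hv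
      exact hπrel _ (sub_mem (hG a (Finset.mem_of_mem_erase ha)) (Submodule.smul_mem _ _ (hG a₀ ha₀)))
    have hcard' : G'.card + 1 ≤ mu1 g := by
      refine le_trans ?_ hcard
      rw [← Finset.card_erase_add_one ha₀]
      exact Nat.succ_le_succ Finset.card_image_le
    refine le_trans (Nat.succ_le_succ (mu1_le_of_gens g' G' hG' fun v hv => ?_)) hcard'
    obtain ⟨b, hb, t, ht, hbt⟩ := Submodule.mem_sup.1 (hle (hErel v hv))
    obtain ⟨s, -, hs⟩ := Submodule.mem_span_finset.1 hb
    let coef := s a₀ + ∑ a ∈ G.erase a₀, s a * r a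
    have hb0 : b i ∈ maximalIdeal A := by
      have h0 : b i + t i = 0 := by rw [← Pi.add_apply, hbt]; simp [E]
      rw [eq_neg_of_add_eq_zero_left h0]
      exact neg_mem (htrivi t ht)
    have hb' : b = ∑ a ∈ G.erase a₀, s a • (a - r a • a₀) + coef • a₀ := by
      rw [← hs, ← Finset.add_sum_erase _ _ ha₀]
      simp only [smul_sub, Finset.sum_sub_distrib, coef, add_smul, Finset.sum_smul, smul_smul]
      abel
    have hcoef : coef ∈ maximalIdeal A := by
      rw [← Ideal.mul_unit_mem_iff_mem _ u.isUnit, hu]
      have hz : ∀ a : Fin (n + 1) → A, (a - r a • a₀) i = 0 := fun a => by simp [r, ← hu, mul_assoc]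
      have : b i = coef * a₀ i := by
        rw [hb', Pi.add_apply, Finset.sum_apply, Finset.sum_eq_zero (fun a _ => by
          rw [Pi.smul_apply, hz, smul_zero]), zero_add]
        rfl
      rwa [← this]
    have hv' : v = π b + π t := by rw [← map_add, hbt, hπE]
    rw [hv', hb', map_add, map_sum]
    refine add_mem (add_mem (sum_mem fun a ha => ?_) ?_) (Submodule.mem_sup_right (hπtriv (Submodule.mem_map_of_mem ht)))
    · rw [map_smul]
      exact Submodule.mem_sup_left (Submodule.smul_mem _ _ (Submodule.subset_span (Finset.mem_image_of_mem _ ha)))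
    · rw [map_smul]
      exact Submodule.mem_sup_right (smul_mem_triv g' _ (hπrel _ (hG a₀ ha₀)) coef (hg'.symm ▸ hcoef))

end Groth.Agent.CAlg9.CIT
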