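import Groth.Agent.CAlg9.CIT.SpreadGens
import Groth.Agent.FlatMor68.FlatInfNbhd
import Groth.Prelude.Def_Mor2

/-!
Regular immersions near a point in terms of the local ring.
-/

set_option autoImplicit false
universe u

open CategoryTheory AlgebraicGeometry TopologicalSpace IsLocalRing

namespace Groth.Agent.CAlg9.CIT

variable {X Y : Scheme.{u}} (i : Y ⟶ X) [IsClosedImmersion i]

theorem ker_restrict_eq (V : X.Opens) (U : V.toScheme.Opens) (hU : IsAffineOpen U) :
    (i ∣_ V).ker.ideal ⟨U, hU⟩ = i.ker.ideal ⟨V.ι ''ᵁ U, hU.image_of_isOpenImmersion V.ι⟩ := by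
  have : QuasiCompact (i ∣_ V) := inferInstance
  rw [Scheme.Hom.ker_apply, Scheme.Hom.ker_apply]
  show RingHom.ker ((i ∣_ V).app U).hom = RingHom.ker (i.app (V.ι ''ᵁ U)).hom
  rw [morphismRestrict_app]
  ext a
  exact map_eq_zero_iff _ (ConcreteCategory.bijective_of_isIso (C := CommRingCat) (Y.presheaf.map _)).1

theorem stalk_regular_of_regularNear (z : Y) [IsLocallyNoetherian X]
    (h : ∃ V : X.Opens, i z ∈ V ∧ Mor2.IsRegularClosedImmersion (i ∣_ V)) :
    CInt.IsRegularIdeal (RingHom.ker (i.stalkMap z).hom) := by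
  obtain ⟨V, hzV, -, hV⟩ := h
  obtain ⟨U, hU, hzU, rs, hrs, hker⟩ := hV ⟨z, hzV⟩
  rw [ker_restrict_eq] at hker
  let W : X.affineOpens := ⟨V.ι ''ᵁ U, hU.image_of_isOpenImmersion V.ι⟩
  have hzW : i z ∈ W.1 := ⟨(i ∣_ V) ⟨z, hzV⟩, hzU, morphismRestrict_base_coe i V ⟨z, hzV⟩⟩
  have : IsNoetherianRing Γ(X, W.1) := IsLocallyNoetherian.component_noetherian W
  have hne : RingHom.ker (i.stalkMap z).hom ≠ ⊤ := RingHom.ker_ne_top _
  rw [FlatMor68.FlatInfNbhd.ker_stalkMap_closedImmersion, Div89.stalkIdeal_eq _ W _ hzW] at hne ⊢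
  let : Algebra Γ(X, W.1) (X.presheaf.stalk (i z)) := Div89.stalkAlg W.1 (i z) hzW
  have := Div89.isLocalization_stalk W (i z) hzW
  have := Div89.primeAt_isPrime W (i z) hzW
  exact regular_map_localization (B := Γ(X, W.1)) (I := i.ker.ideal W) (rs := rs) hrs hker.symm
    (Div89.primeAt W (i z) hzW).primeCompl (X.presheaf.stalk (i z)) hne

theorem regularNear_of_stalk_regular (z : Y) [IsLocallyNoetherian X]
    (h : CInt.IsRegularIdeal (RingHom.ker (i.stalkMap z).hom)) :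
    ∃ V : X.Opens, i z ∈ V ∧ Mor2.IsRegularClosedImmersion (i ∣_ V) := by
  obtain ⟨U, hzU⟩ := Div89.exists_affine_mem (i z)
  have : IsNoetherianRing Γ(X, U.1) := IsLocallyNoetherian.component_noetherian U
  rw [FlatMor68.FlatInfNbhd.ker_stalkMap_closedImmersion, Div89.stalkIdeal_eq _ U _ hzU] at h
  let : Algebra Γ(X, U.1) (X.presheaf.stalk (i z)) := Div89.stalkAlg U.1 (i z) hzU
  have := Div89.isLocalization_stalk U (i z) hzU
  have := Div89.primeAt_isPrime U (i z) hzU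
  obtain ⟨gs, s, hs, hg⟩ := exists_goodGens (B := Γ(X, U.1)) (i.ker.ideal U) (Div89.primeAt U (i z) hzU)
    (X.presheaf.stalk (i z)) h
  have hzs : i z ∈ X.basicOpen s :=
    (X.mem_basicOpen s (i z) hzU).2 ((Div89.germ_isUnit_iff U (i z) hzU s).2 hs)
  refine ⟨X.basicOpen s, hzs, inferInstance, fun z' => ?_⟩
  let V := X.basicOpen s
  have hVaff : IsAffine V.toScheme := (U.2.basicOpen s)
  refine ⟨⊤, isAffineOpen_top V.toScheme, trivial, ?_⟩
  rw [ker_restrict_eq]
  let W : X.affineOpens := ⟨V.ι ''ᵁ ⊤, (isAffineOpen_top V.toScheme).image_of_isOpenImmersion V.ι⟩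
  have hWV : W.1 = X.basicOpen s := V.ι_image_top
  have hWU : W ≤ U := hWV.le.trans (X.basicOpen_le s)
  let : Algebra Γ(X, U.1) Γ(X, W.1) := (X.presheaf.map (homOfLE hWU).op).hom.toAlgebra
  have : IsLocalization.Away s Γ(X, W.1) := U.2.isLocalization_of_eq_basicOpen s (homOfLE hWU) hWV
  have hmap : (i.ker.ideal U).map (algebraMap Γ(X, U.1) Γ(X, W.1)) = i.ker.ideal W :=
    i.ker.map_ideal hWU
  have hne : i.ker.ideal W ≠ ⊤ := fun e => by
    have hz : i z ∈ W.1 := hWV ▸ hzs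
    have h1 := RingHom.ker_ne_top (i.stalkMap z).hom
    rw [FlatMor68.FlatInfNbhd.ker_stalkMap_closedImmersion, Div89.stalkIdeal_eq _ W _ hz, e, Ideal.map_top] at h1
    exact h1 rfl
  obtain ⟨h1, h2⟩ := hg.localized (Submonoid.powers s) Γ(X, W.1) (IsLocalization.Away.algebraMap_isUnit s)
    (hmap ▸ hne)
  exact ⟨_, h1, hmap.symm.trans h2.symm⟩

theorem regularNear_iff (z : Y) [IsLocallyNoetherian X] :
    (∃ V : X.Opens, i z ∈ V ∧ Mor2.IsRegularClosedImmersion (i ∣_ V)) ↔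
      CInt.IsRegularIdeal (RingHom.ker (i.stalkMap z).hom) :=
  ⟨stalk_regular_of_regularNear i z, regularNear_of_stalk_regular i z⟩

end Groth.Agent.CAlg9.CIT
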