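import Groth.Agent.CAlg9.CIT.Immersion

/-!
Composition of regular immersions at a point.
-/

set_option autoImplicit false
universe u

open CategoryTheory AlgebraicGeometry IsLocalRing RingTheory.Sequence

namespace Groth.Agent.CAlg9.CIT

theorem isRegularIdeal_map_equiv {A B : Type u} [CommRing A] [CommRing B] (e : A ≃+* B) (I : Ideal A) :
    CInt.IsRegularIdeal (I.map e.toRingHom) ↔ CInt.IsRegularIdeal I := by
  have main : ∀ {A B : Type u} [CommRing A] [CommRing B] (e : A ≃+* B) (I : Ideal A),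
      CInt.IsRegularIdeal I → CInt.IsRegularIdeal (I.map e.toRingHom) := by
    intro A B _ _ e I hI
    obtain ⟨rs, hrs, rfl⟩ := hI
    refine ⟨rs.map e.toRingHom, ?_, (Ideal.map_ofList _ _).symm⟩
    refine (AddEquiv.isRegular_congr (e := e.toAddEquiv) ?_).1 hrs
    rw [List.forall₂_map_right_iff, List.forall₂_same]
    intro a _ x
    exact map_mul e a x
  refine ⟨fun h => ?_, main e I⟩
  have := main e.symm _ h
  rwa [Ideal.map_map, show e.symm.toRingHom.comp e.toRingHom = RingHom.id A from RingHom.ext e.symm_apply_apply,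
    Ideal.map_id] at this

variable {A B C : Type u} [CommRing A] [CommRing B] [CommRing C]

theorem isRegularIdeal_quot_iff (φ : A →+* B) (hφ : Function.Surjective φ) (K : Ideal A) :
    CInt.IsRegularIdeal (K.map (Ideal.Quotient.mk (RingHom.ker φ))) ↔ CInt.IsRegularIdeal (K.map φ) := by
  rw [← isRegularIdeal_map_equiv (RingHom.quotientKerEquivOfSurjective hφ), Ideal.map_map]
  exact iff_of_eq (congrArg _ (congrArg (fun h => Ideal.map h K) (RingHom.ext fun a => rfl)))

theorem map_ker_comp (φ : A →+* B) (hφ : Function.Surjective φ) (ψ : B →+* C) :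
    (RingHom.ker (ψ.comp φ)).map φ = RingHom.ker ψ := by
  rw [← RingHom.comap_ker, Ideal.map_comap_of_surjective φ hφ]

theorem comp_regular_iff [IsNoetherianRing A] [IsLocalRing A] [Nontrivial C] (φ : A →+* B)
    (hφ : Function.Surjective φ) (ψ : B →+* C) :
    (CInt.IsRegularIdeal (RingHom.ker ψ) ∧ CInt.IsRegularIdeal (RingHom.ker φ)) ↔
      (CInt.IsRegularIdeal (RingHom.ker ψ) ∧ CInt.IsRegularIdeal (RingHom.ker (ψ.comp φ))) := by
  have hle : RingHom.ker φ ≤ RingHom.ker (ψ.comp φ) := fun a ha => by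
    rw [RingHom.mem_ker, RingHom.comp_apply, RingHom.mem_ker.1 ha, map_zero]
  have hK : RingHom.ker (ψ.comp φ) ≤ maximalIdeal A := le_maximalIdeal (RingHom.ker_ne_top _)
  refine and_congr_right fun h => ?_
  rw [← map_ker_comp φ hφ ψ, ← isRegularIdeal_quot_iff φ hφ] at h
  exact ⟨fun hJ => RegSeq.regular_of_quotient _ _ hle hK hJ h, fun hKr => RegSeq.regular_sub _ _ hle hK hKr h⟩

theorem comp_regular_iff_of_regular [IsRegularLocalRing A] [IsRegularLocalRing B] [Nontrivial C]
    (φ : A →+* B) (hφ : Function.Surjective φ) (ψ : B →+* C) :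
    CInt.IsRegularIdeal (RingHom.ker (ψ.comp φ)) ↔ CInt.IsRegularIdeal (RingHom.ker ψ) := by
  have hle : RingHom.ker φ ≤ RingHom.ker (ψ.comp φ) := fun a ha => by
    rw [RingHom.mem_ker, RingHom.comp_apply, RingHom.mem_ker.1 ha, map_zero]
  have hK : RingHom.ker (ψ.comp φ) ≤ maximalIdeal A := le_maximalIdeal (RingHom.ker_ne_top _)
  have : IsRegularLocalRing (A ⧸ RingHom.ker φ) :=
    IsRegularLocalRing.of_ringEquiv (RingHom.quotientKerEquivOfSurjective hφ).symm
  rw [← map_ker_comp φ hφ ψ, ← isRegularIdeal_quot_iff φ hφ]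
  exact ⟨RegSeq.regular_map _ _ hle hK this, fun h =>
    RegSeq.regular_of_quotient _ _ hle hK ((S5033.result A (RingHom.ker φ)).1 inferInstance) h⟩

end Groth.Agent.CAlg9.CIT
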