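import Groth.Agent.CAlg9.CIT.Koszul

/-!
`dim B − μ(I)` does not depend on the presentation.
-/

set_option autoImplicit false
universe u

open IsLocalRing

namespace Groth.Agent.CAlg9.CIT

/-- cutting by a minimal generator -/
theorem spanFinrank_map_quotient {B : Type u} [CommRing B] [IsLocalRing B] [IsNoetherianRing B]
    (I : Ideal B) (hI : I ≤ maximalIdeal B) {b : B} (hb : b ∈ I) (hb2 : b ∉ maximalIdeal B ^ 2) :
    (I.map (Ideal.Quotient.mk (Ideal.span {b}))).spanFinrank + 1 = I.spanFinrank := by
  classical
  let φ := Ideal.Quotient.mk (Ideal.span ({b} : Set B))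
  refine le_antisymm ?_ ?_
  · obtain ⟨r, h, hh, hspan, hr⟩ := RegSeq.extend_minimal I I le_rfl (q := 1) (fun _ => b) (fun _ => hb)
      le_sup_left (fun c hc i => by
        fin_cases i
        by_contra hu
        refine hb2 ?_
        have h1 : c 0 * b ∈ maximalIdeal B ^ 2 := by
          have := Ideal.mul_mono le_rfl hI hc
          rw [pow_two]
          simpa using this
        exact (Ideal.unit_mul_mem_iff_mem _ (notMem_maximalIdeal.1 hu)).1 h1)
    have hmap : I.map φ = Ideal.span (Set.range fun i => φ (h i)) := by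
      refine le_antisymm ?_ (Ideal.span_le.2 ?_)
      · conv_lhs => rw [← hspan]
        rw [Ideal.map_span, Ideal.span_le]
        rintro _ ⟨_, ⟨i, rfl⟩, rfl⟩
        induction i using Fin.addCases with
        | left i => rw [Fin.append_left]; exact Ideal.subset_span ⟨i, rfl⟩
        | right i =>
          rw [Fin.append_right, SetLike.mem_coe,
            show φ b = 0 from Ideal.Quotient.eq_zero_iff_mem.2 (Ideal.mem_span_singleton_self b)]
          exact zero_mem _
      · rintro _ ⟨i, rfl⟩
        exact Ideal.mem_map_of_mem φ (hh i)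
    rw [hmap]
    have h1 : (Ideal.span (Set.range fun i => φ (h i))).spanFinrank ≤ r := by
      refine (Submodule.spanFinrank_span_le_ncard_of_finite (Set.finite_range _)).trans ?_
      rw [← Nat.card_coe_set_eq]
      exact (Finite.card_range_le _).trans_eq (Nat.card_fin r)
    omega
  · obtain ⟨s, hs, hsp⟩ := (IsNoetherian.noetherian (I.map φ)).exists_span_finset_card_eq_spanFinrank
    have hl : ∀ y : B ⧸ Ideal.span ({b} : Set B), ∃ x : B, y ∈ I.map φ → x ∈ I ∧ φ x = y := fun y => by
      by_cases hy : y ∈ I.map φ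
      · obtain ⟨x, hx⟩ := (Ideal.mem_map_iff_of_surjective φ Ideal.Quotient.mk_surjective).1 hy
        exact ⟨x, fun _ => hx⟩
      · exact ⟨0, fun h => absurd h hy⟩
    choose l hl using hl
    have hsI : ∀ y ∈ s, y ∈ I.map φ := fun y hy => hsp ▸ Submodule.subset_span hy
    have hI' : I = Ideal.span (insert b (l '' (s : Set _))) := by
      refine le_antisymm (fun x hx => ?_) (Ideal.span_le.2 ?_)
      · have h1 : φ x ∈ (Ideal.span (l '' (s : Set _))).map φ := by
          rw [Ideal.map_span, ← Set.image_comp]
          refine Submodule.span_mono ?_ (hsp ▸ Ideal.mem_map_of_mem φ hx :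
            φ x ∈ Submodule.span _ (s : Set (B ⧸ Ideal.span ({b} : Set B))))
          exact fun y hy => ⟨y, hy, (hl y (hsI y hy)).2⟩
        rw [← Ideal.mem_comap, Ideal.comap_map_of_surjective _ Ideal.Quotient.mk_surjective,
          ← RingHom.ker_eq_comap_bot, Ideal.mk_ker] at h1
        rw [Ideal.span_insert, sup_comm]
        exact h1
      · rintro x (rfl | ⟨y, hy, rfl⟩)
        · exact hb
        · exact (hl y (hsI y hy)).1
    show I.spanFinrank ≤ (I.map φ).spanFinrank + 1
    rw [← hs]
    conv_lhs => rw [hI']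
    refine (Submodule.spanFinrank_span_le_ncard_of_finite ((s.finite_toSet.image l).insert b)).trans ?_
    exact (Set.ncard_insert_le _ _).trans
      (Nat.succ_le_succ ((Set.ncard_image_le s.finite_toSet).trans (Set.ncard_coe_finset s).le))

theorem delta_aux {A : Type u} [CommRing A] [IsLocalRing A] [IsNoetherianRing A] {ν : ℕ} (xb : Fin ν → A)
    (hxb : Ideal.span (Set.range xb) = maximalIdeal A) (hν : ν = (maximalIdeal A).spanFinrank) :
    ∀ (d : ℕ) (B : Type u) [CommRing B] [IsRegularLocalRing B] (f : B →+* A),
      Function.Surjective f → ringKrullDim B = d →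
      (d : ℤ) - ((RingHom.ker f).spanFinrank : ℤ) =
        (ν : ℤ) - ((⊤ : Submodule A (H1 xb)).spanFinrank : ℤ) := by
  intro d
  induction d using Nat.strong_induction_on with
  | _ d ih =>
    intro B _ _ f hf hd
    by_cases hmin : RingHom.ker f ≤ maximalIdeal B ^ 2
    · obtain ⟨h1, h2⟩ := spanFinrank_ker_eq_H1 f hf hmin xb hxb hν
      have h3 := IsRegularLocalRing.spanFinrank_maximalIdeal (R := B)
      rw [h1, hd] at h3
      have h4 : ν = d := by exact_mod_cast h3
      rw [h2]
      omega
    · obtain ⟨b, hb, hb2⟩ := SetLike.not_le_iff_exists.1 hmin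
      have hbm := ker_le_maximal f hb
      have := CAlg1.isLocalRing_quotient_singleton hbm
      obtain ⟨hreg, hdim⟩ := CAlg1.regular_quotient_singleton hbm hb2
      obtain ⟨d', hd'⟩ := exists_dim_eq (B ⧸ Ideal.span ({b} : Set B))
      rw [hd', hd] at hdim
      have hdd : d' + 1 = d := by exact_mod_cast hdim
      have hle : Ideal.span ({b} : Set B) ≤ RingHom.ker f := (Ideal.span_singleton_le_iff_mem _).2 hb
      let g := Ideal.Quotient.lift (Ideal.span ({b} : Set B)) f fun a ha => hle ha
      have := ih d' (by omega) (B ⧸ Ideal.span ({b} : Set B)) g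
        (Ideal.Quotient.lift_surjective_of_surjective _ _ hf) hd'
      rw [show RingHom.ker g = (RingHom.ker f).map (Ideal.Quotient.mk (Ideal.span ({b} : Set B))) from
        Ideal.ker_quotient_lift f hle] at this
      have h5 := spanFinrank_map_quotient (RingHom.ker f) (ker_le_maximal f) hb hb2
      rw [← this]
      omega

/-- `dim B − μ(ker)` is independent of the presentation of `A` as a quotient of a regular local ring. -/
theorem delta_eq {A : Type u} [CommRing A] [IsLocalRing A] [IsNoetherianRing A] (B B' : Type u)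
    [CommRing B] [CommRing B'] [IsRegularLocalRing B] [IsRegularLocalRing B'] (f : B →+* A)
    (hf : Function.Surjective f) (f' : B' →+* A) (hf' : Function.Surjective f') (d d' : ℕ)
    (hd : ringKrullDim B = d) (hd' : ringKrullDim B' = d') :
    (d : ℤ) - ((RingHom.ker f).spanFinrank : ℤ) = (d' : ℤ) - ((RingHom.ker f').spanFinrank : ℤ) := by
  obtain ⟨s, hs, hsp⟩ := (IsNoetherian.noetherian (maximalIdeal A)).exists_span_finset_card_eq_spanFinrank
  let x : Fin s.card → A := fun i => (s.equivFin.symm i).1
  have hx : Ideal.span (Set.range x) = maximalIdeal A := by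
    rw [← hsp]
    congr 1
    ext a
    exact ⟨fun ⟨i, hi⟩ => hi ▸ (s.equivFin.symm i).2, fun ha => ⟨s.equivFin ⟨a, ha⟩, by simp [x]⟩⟩
  rw [delta_aux x hx hs d B f hf hd, delta_aux x hx hs d' B' f' hf' hd']

end Groth.Agent.CAlg9.CIT
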