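import Groth.Agent.CAlg9.CIT.Regular
import Groth.Agent.CAlg1.Regular
import Mathlib.LinearAlgebra.Finsupp.LinearCombination

/-!
Independence of `dim B − μ(I)` of the presentation `A = B/I` by a regular local ring:
`μ(I)` is computed by the first Koszul homology of `A` for minimal presentations.
-/

set_option autoImplicit false
universe u

open IsLocalRing RingTheory.Sequence

namespace Groth.Agent.CAlg9.CIT

variable {A : Type u} [CommRing A]

/-- trivial relations -/
def triv {n : ℕ} (x : Fin n → A) : Submodule A (Fin n → A) :=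
  Submodule.span A {v | ∃ i j : Fin n, v = x j • (Pi.single i 1 : Fin n → A) - x i • (Pi.single j 1 : Fin n → A)}

/-- relations -/
def rels {n : ℕ} (x : Fin n → A) : Submodule A (Fin n → A) := LinearMap.ker (Fintype.linearCombination A x)

/-- first Koszul homology -/
abbrev H1 {n : ℕ} (x : Fin n → A) : Type u := rels x ⧸ (triv x).comap (rels x).subtype

theorem mem_rels {n : ℕ} {x : Fin n → A} {a : Fin n → A} : a ∈ rels x ↔ ∑ i, a i * x i = 0 := by
  simp [rels, Fintype.linearCombination_apply]

/-- relations among a regular sequence are trivial -/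
theorem mem_triv_of_regular : ∀ {n : ℕ} (x : Fin n → A), IsWeaklyRegular A (List.ofFn x) →
    ∀ a : Fin n → A, ∑ i, a i * x i = 0 → a ∈ triv x := by
  intro n
  induction n with
  | zero => intro x _ a _; rw [show a = 0 from funext fun i => i.elim0]; exact zero_mem _
  | succ n ih =>
    intro x hx a ha
    let x' : Fin n → A := fun i => x i.castSucc
    rw [List.ofFn_succ_last, isWeaklyRegular_append_iff, isWeaklyRegular_cons_iff] at hx
    obtain ⟨hx', hlast, -⟩ := hx
    rw [Fin.sum_univ_castSucc] at ha
    have hal : a (Fin.last n) ∈ Ideal.span (Set.range x') := by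
      rw [isSMulRegular_iff_right_eq_zero_of_smul] at hlast
      have h1 : x (Fin.last n) * a (Fin.last n) ∈ Ideal.ofList (List.ofFn x') • (⊤ : Submodule A A) := by
        rw [Ideal.smul_eq_mul, Ideal.mul_top, RegSeq.ofList_ofFn,
          show x (Fin.last n) * a (Fin.last n) = - ∑ i : Fin n, a i.castSucc * x' i from
            eq_neg_of_add_eq_zero_right (by rw [mul_comm (x _)]; exact ha)]
        exact neg_mem (sum_mem fun i _ => Ideal.mul_mem_left _ _ (Ideal.subset_span ⟨i, rfl⟩))
      have h2 := hlast (Submodule.Quotient.mk (a (Fin.last n))) (by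
        rw [← Submodule.Quotient.mk_smul, Submodule.Quotient.mk_eq_zero]; exact h1)
      rw [Submodule.Quotient.mk_eq_zero] at h2
      rw [← RegSeq.ofList_ofFn]
      simpa [Ideal.mul_top, Ideal.smul_eq_mul, x'] using h2
    obtain ⟨b, hb⟩ := Ideal.mem_span_range_iff_exists_fun.1 hal
    let E : (Fin n → A) →ₗ[A] (Fin (n + 1) → A) :=
      { toFun := fun v => Fin.snoc v 0
        map_add' := fun v w => by funext i; induction i using Fin.lastCases <;> simp
        map_smul' := fun c v => by funext i; induction i using Fin.lastCases <;> simp }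
    have hE : (triv x').map E ≤ triv x := by
      rw [triv, Submodule.map_span, Submodule.span_le]
      rintro _ ⟨_, ⟨i, j, rfl⟩, rfl⟩
      have hs : ∀ i : Fin n, E (Pi.single i 1) = Pi.single i.castSucc 1 := fun i => by
        funext l
        induction l using Fin.lastCases with
        | last => simp [E, Pi.single_eq_of_ne (Fin.castSucc_ne_last i).symm]
        | cast l =>
          by_cases hl : l = i
          · subst hl; simp [E]
          · simp [E, Pi.single_eq_of_ne hl, Pi.single_eq_of_ne (fun e => hl (Fin.castSucc_injective _ e))]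
      refine Submodule.subset_span ⟨i.castSucc, j.castSucc, ?_⟩
      rw [map_sub, map_smul, map_smul, hs, hs]
    have h0 : (fun i : Fin n => a i.castSucc + b i * x (Fin.last n)) ∈ triv x' := by
      refine ih x' hx' _ ?_
      rw [← hb, Finset.sum_mul] at ha
      rw [← ha, ← Finset.sum_add_distrib]
      exact Finset.sum_congr rfl fun i _ => by ring
    have hdec : a = E (fun i : Fin n => a i.castSucc + b i * x (Fin.last n)) -
        ∑ i : Fin n, b i • (x (Fin.last n) • (Pi.single i.castSucc 1 : Fin (n+1) → A) -
          x i.castSucc • (Pi.single (Fin.last n) 1 : Fin (n+1) → A)) := by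
      funext l
      induction l using Fin.lastCases with
      | last =>
        simp [E, Finset.sum_apply, Pi.single_eq_of_ne (Fin.castSucc_ne_last _).symm, ← hb, x']
      | cast l =>
        simp [E, Finset.sum_apply, Pi.single_apply, Fin.castSucc_ne_last]
    rw [hdec]
    exact sub_mem (hE (Submodule.mem_map_of_mem h0))
      (sum_mem fun i _ => Submodule.smul_mem _ _ (Submodule.subset_span ⟨i.castSucc, Fin.last n, rfl⟩))

variable [IsLocalRing A]

theorem ker_le_maximal {B : Type u} [CommRing B] [IsLocalRing B] (f : B →+* A) :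
    RingHom.ker f ≤ maximalIdeal B := le_maximalIdeal (RingHom.ker_ne_top f)

/-- a minimal presentation computes the first Koszul homology -/
theorem spanFinrank_ker_eq_H1 [IsNoetherianRing A] {B : Type u} [CommRing B] [IsRegularLocalRing B]
    (f : B →+* A) (hf : Function.Surjective f) (hmin : RingHom.ker f ≤ maximalIdeal B ^ 2)
    {n : ℕ} (xb : Fin n → A) (hxb : Ideal.span (Set.range xb) = maximalIdeal A)
    (hn : n = (maximalIdeal A).spanFinrank) :
    (maximalIdeal B).spanFinrank = n ∧
      (RingHom.ker f).spanFinrank = (⊤ : Submodule A (H1 xb)).spanFinrank := by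
  classical
  choose x hx using fun i => hf (xb i)
  let I := RingHom.ker f
  have hmap : (maximalIdeal B).map f = maximalIdeal A := IsLocalRing.map_maximalIdeal_of_surjective f hf
  have hspan : Ideal.span (Set.range x) = maximalIdeal B := by
    have hle : Ideal.span (Set.range x) ≤ maximalIdeal B := by
      rw [Ideal.span_le]
      rintro _ ⟨i, rfl⟩
      by_contra hu
      have h1 : xb i ∈ maximalIdeal A := hxb ▸ Ideal.subset_span ⟨i, rfl⟩
      exact (IsLocalRing.mem_maximalIdeal _).1 h1 (hx i ▸ (notMem_maximalIdeal.1 hu).map f)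
    refine le_antisymm hle (Submodule.le_of_le_smul_of_le_jacobson_bot (IsNoetherian.noetherian _)
      (maximalIdeal_le_jacobson ⊥) fun b hb => ?_)
    have h1 : f b ∈ Ideal.span (Set.range xb) := by rw [hxb, ← hmap]; exact Ideal.mem_map_of_mem f hb
    obtain ⟨c, hc⟩ := Ideal.mem_span_range_iff_exists_fun.1 h1
    choose c' hc' using fun i => hf (c i)
    have h2 : b - ∑ i, c' i * x i ∈ maximalIdeal B • maximalIdeal B := by
      rw [Ideal.smul_eq_mul, ← pow_two]
      refine hmin (RingHom.mem_ker.2 ?_)
      simp only [map_sub, map_sum, map_mul, hc', hx, hc, sub_self]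
    exact Submodule.mem_sup.2 ⟨∑ i, c' i * x i,
      sum_mem fun i _ => Ideal.mul_mem_left _ _ (Ideal.subset_span ⟨i, rfl⟩), _, h2, add_sub_cancel _ _⟩
  have hnB : (maximalIdeal B).spanFinrank = n := by
    refine le_antisymm ?_ ?_
    · rw [← hspan]
      refine (Submodule.spanFinrank_span_le_ncard_of_finite (Set.finite_range x)).trans ?_
      rw [← Nat.card_coe_set_eq]
      exact (Finite.card_range_le x).trans_eq (Nat.card_fin n)
    · rw [hn, ← hmap]
      exact Ideal.spanFinrank_map_le_of_fg f (IsNoetherian.noetherian _)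
  refine ⟨hnB, ?_⟩
  obtain ⟨e, he⟩ := exists_dim_eq B
  obtain ⟨y, hy, hyreg⟩ := exists_parameters B e he
  have hxreg := RegSeq.isRegular_of_minimal (K := maximalIdeal B)
    ⟨List.ofFn y, hyreg, (RegSeq.ofList_ofFn y).trans hy⟩ x hspan hnB.symm
  -- reduction of coordinate vectors
  let red : (Fin n → B) → (Fin n → A) := fun a i => f (a i)
  have htriv : ∀ a, a ∈ triv x → red a ∈ triv xb := fun a ha => by
    induction ha using Submodule.span_induction with
    | zero => simp [red, show (fun _ : Fin n => (0 : A)) = 0 from rfl]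
    | add u v _ _ hu hv =>
      rw [show red (u + v) = red u + red v from funext fun i => map_add f _ _]; exact add_mem hu hv
    | smul c u _ hu =>
      rw [show red (c • u) = f c • red u from funext fun i => map_mul f _ _]; exact Submodule.smul_mem _ _ hu
    | mem v hv =>
      obtain ⟨i, j, rfl⟩ := hv
      refine Submodule.subset_span ⟨i, j, funext fun l => ?_⟩
      simp [red, Pi.single_apply, hx, apply_ite f]
  have hlift : ∀ v : Fin n → A, v ∈ triv xb → ∃ a, a ∈ triv x ∧ red a = v := fun v hv => by
    induction hv using Submodule.span_induction with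
    | zero => exact ⟨0, zero_mem _, funext fun _ => map_zero f⟩
    | add u v _ _ hu hv =>
      obtain ⟨a, ha, rfl⟩ := hu
      obtain ⟨b, hb, rfl⟩ := hv
      exact ⟨a + b, add_mem ha hb, funext fun i => map_add f _ _⟩
    | smul c u _ hu =>
      obtain ⟨a, ha, rfl⟩ := hu
      obtain ⟨c, rfl⟩ := hf c
      exact ⟨c • a, Submodule.smul_mem _ _ ha, funext fun i => map_mul f _ _⟩
    | mem v hv =>
      obtain ⟨i, j, rfl⟩ := hv
      refine ⟨_, Submodule.subset_span ⟨i, j, rfl⟩, funext fun l => ?_⟩
      simp [red, Pi.single_apply, hx, apply_ite f]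
  have htrel : ∀ a, a ∈ triv x → ∑ i, a i * x i = 0 := fun a ha => by
    refine mem_rels.1 (Submodule.span_le.2 ?_ ha)
    rintro _ ⟨i, j, rfl⟩
    rw [SetLike.mem_coe, rels, LinearMap.mem_ker, map_sub, map_smul, map_smul,
      Fintype.linearCombination_apply_single, Fintype.linearCombination_apply_single]
    simp [mul_comm]
  have hred : ∀ a : Fin n → B, red a ∈ rels xb ↔ ∑ i, a i * x i ∈ I := fun a => by
    rw [mem_rels, RingHom.mem_ker, map_sum]
    simp [red, hx]
  refine le_antisymm ?_ ?_
  · -- generators of `H1` give generators of `I`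
    have : IsNoetherian A (H1 xb) := inferInstance
    obtain ⟨s, hs, hsp⟩ := (IsNoetherian.noetherian (⊤ : Submodule A (H1 xb))).exists_span_finset_card_eq_spanFinrank
    choose z hz using fun h : H1 xb => Submodule.Quotient.mk_surjective _ h
    have hl : ∀ h : H1 xb, ∃ a : Fin n → B, red a = (z h).1 := fun h =>
      ⟨fun i => Function.surjInv hf ((z h).1 i), funext fun i => Function.surjInv_eq hf _⟩
    choose a ha using hl
    let fh : H1 xb → B := fun h => ∑ i, a h i * x i
    have hle : Ideal.span (fh '' (s : Set (H1 xb))) ≤ I := Ideal.span_le.2 (by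
      rintro _ ⟨h, -, rfl⟩
      exact (hred (a h)).1 (ha h ▸ (z h).2))
    have hge : I ≤ Ideal.span (fh '' (s : Set (H1 xb))) := by
      refine Submodule.le_of_le_smul_of_le_jacobson_bot (IsNoetherian.noetherian I)
        (maximalIdeal_le_jacobson ⊥) fun b hb => ?_
      obtain ⟨c, hc⟩ := Ideal.mem_span_range_iff_exists_fun.1 (hspan.symm ▸ ker_le_maximal f hb :
        b ∈ Ideal.span (Set.range x))
      let w : rels xb := ⟨red c, (hred c).2 (hc.symm ▸ hb)⟩
      obtain ⟨g, -, hg⟩ := Submodule.mem_span_image_iff_exists_fun A |>.1 (show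
        (Submodule.Quotient.mk w : H1 xb) ∈ Submodule.span A (id '' (s : Set (H1 xb))) by
          rw [Set.image_id, hsp]; trivial) |> fun ⟨t, ht, c, hc⟩ => (⟨(fun h => if hh : h ∈ t then c ⟨h, hh⟩ else 0), trivial, by
            rw [← hc]
            refine (Finset.sum_subset (show t ⊆ s from fun h hh => by simpa using ht hh) ?_).symm.trans ?_
            · intro h _ hh; simp [hh]
            · rw [← Finset.sum_coe_sort t]
              exact Finset.sum_congr rfl fun i _ => by simp⟩ :
          ∃ g : H1 xb → A, True ∧ ∑ h ∈ s, g h • h = Submodule.Quotient.mk w)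
      choose g' hg' using fun h => hf (g h)
      have hdiff : w - ∑ h ∈ s, g h • z h ∈ (triv xb).comap (rels xb).subtype := by
        rw [← Submodule.Quotient.mk_eq_zero, Submodule.Quotient.mk_sub, ← Submodule.mkQ_apply,
          ← Submodule.mkQ_apply, map_sum]
        simp only [map_smul, Submodule.mkQ_apply, hz, hg, sub_self]
      obtain ⟨t, ht, hte⟩ := hlift _ hdiff
      let d : Fin n → B := c - ∑ h ∈ s, g' h • a h - t
      have hd : ∀ i, d i ∈ I := fun i => by
        have := congrFun hte i
        simp only [red, map_sub, map_sum, Submodule.coe_subtype, Pi.sub_apply, map_smul,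
          Submodule.coe_sub, AddSubmonoidClass.coe_finsetSum, Submodule.coe_smul, Finset.sum_apply,
          Pi.smul_apply, smul_eq_mul] at this
        rw [RingHom.mem_ker]
        simp only [d, Pi.sub_apply, map_sub, Finset.sum_apply, map_sum, Pi.smul_apply, smul_eq_mul,
          map_mul, hg', this, show ∀ h, f (a h i) = (z h).1 i from fun h => congrFun (ha h) i]
        exact sub_self _
      have hb' : b = ∑ h ∈ s, g' h * fh h + ∑ i, d i * x i := by
        rw [← hc]
        simp only [d, fh, Pi.sub_apply, sub_mul, Finset.sum_sub_distrib, Finset.sum_apply,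
          Pi.smul_apply, smul_eq_mul, Finset.sum_mul, htrel t ht, sub_zero, Finset.mul_sum]
        rw [Finset.sum_comm (s := Finset.univ) (t := s)]
        simp [mul_assoc]
      rw [hb']
      refine Submodule.mem_sup.2 ⟨_, sum_mem fun h hh => Ideal.mul_mem_left _ _
        (Ideal.subset_span ⟨h, hh, rfl⟩), _, sum_mem fun i _ => ?_, rfl⟩
      rw [mul_comm]
      exact Submodule.smul_mem_smul (hspan ▸ Ideal.subset_span ⟨i, rfl⟩) (hd i)
    show I.spanFinrank ≤ _
    rw [← le_antisymm hle hge, ← hs]
    refine (Submodule.spanFinrank_span_le_ncard_of_finite (s.finite_toSet.image fh)).trans ?_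
    exact (Set.ncard_image_le s.finite_toSet).trans (Set.ncard_coe_finset s).le
  · -- generators of `I` give generators of `H1`
    obtain ⟨s, hs, hsp⟩ := (IsNoetherian.noetherian I).exists_span_finset_card_eq_spanFinrank
    have hl : ∀ b : B, ∃ c : Fin n → B, b ∈ I → ∑ i, c i * x i = b := fun b => by
      by_cases hb : b ∈ I
      · obtain ⟨c, hc⟩ := Ideal.mem_span_range_iff_exists_fun.1 (hspan.symm ▸ ker_le_maximal f hb :
          b ∈ Ideal.span (Set.range x))
        exact ⟨c, fun _ => hc⟩
      · exact ⟨0, fun h => absurd h hb⟩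
    choose c hc using hl
    have hsI : ∀ b ∈ s, b ∈ I := fun b hb => hsp ▸ Submodule.subset_span hb
    let w : s → H1 xb := fun b => Submodule.Quotient.mk
      ⟨red (c b), (hred _).2 ((hc b.1 (hsI b.1 b.2)).symm ▸ hsI b.1 b.2)⟩
    have htop : Submodule.span A (Set.range w) = ⊤ := by
      refine top_le_iff.1 fun q _ => ?_
      obtain ⟨⟨v, hv⟩, rfl⟩ := Submodule.Quotient.mk_surjective _ q
      have hv' : ∃ a, red a = v := ⟨fun i => Function.surjInv hf (v i), funext fun i => Function.surjInv_eq hf _⟩
      obtain ⟨a, rfl⟩ := hv'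
      have hb := (hred a).1 hv
      obtain ⟨g, -, hg⟩ : ∃ g : B → B, True ∧ ∑ b ∈ s, g b * b = ∑ i, a i * x i := by
        obtain ⟨g, -, hg⟩ := Submodule.mem_span_finset.1 (hsp ▸ hb :
          (∑ i, a i * x i) ∈ Submodule.span B (s : Set B))
        exact ⟨g, trivial, hg⟩
      have hrel : ∑ i, (a - ∑ b ∈ s, g b • c b) i * x i = 0 := by
        simp only [Pi.sub_apply, sub_mul, Finset.sum_sub_distrib, Finset.sum_apply, Pi.smul_apply,
          smul_eq_mul, Finset.sum_mul]
        rw [Finset.sum_comm (s := Finset.univ) (t := s), sub_eq_zero, ← hg]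
        refine Finset.sum_congr rfl fun b hb => ?_
        simp only [mul_assoc, ← Finset.mul_sum, hc b (hsI b hb)]
      have h1 := htriv _ (mem_triv_of_regular x hxreg.1 _ hrel)
      have heq : (Submodule.Quotient.mk ⟨red a, hv⟩ : H1 xb) = ∑ b : s, f (g b) • w b := by
        simp only [w, ← Submodule.mkQ_apply, ← map_smul, ← map_sum]
        refine (Submodule.Quotient.eq _).2 ?_
        rw [Submodule.mem_comap]
        convert h1 using 1
        funext i
        simp [red, Finset.sum_apply, ← Finset.sum_coe_sort s]
      rw [heq]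
      exact sum_mem fun b _ => Submodule.smul_mem _ _ (Submodule.subset_span ⟨b, rfl⟩)
    show _ ≤ I.spanFinrank
    rw [← htop, ← hs]
    refine (Submodule.spanFinrank_span_le_ncard_of_finite (Set.finite_range w)).trans ?_
    rw [← Nat.card_coe_set_eq]
    exact (Finite.card_range_le w).trans (by simp)

end Groth.Agent.CAlg9.CIT
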