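import Groth.Agent.CAlg9.CIT.FibreStalks
import Groth.Agent.CAlg9.CIT.Codim
import Groth.Agent.EGA4Alg4.FlatReg
import Groth.Agent.VarGal.SmoothReg
import Groth.Agent.S5033

/-!
Regular ideals lift from the closed fibre along flat quotients.
-/

set_option autoImplicit false
universe u

open CategoryTheory CategoryTheory.Limits AlgebraicGeometry IsLocalRing RingTheory.Sequence

namespace Groth.Agent.CAlg9.CIT

theorem exists_regular_lift {R A : Type u} [CommRing R] [IsLocalRing R] [CommRing A] [IsLocalRing A]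
    [IsNoetherianRing A] [Algebra R A] [IsLocalHom (algebraMap R A)] [Module.Flat R A] (J : Ideal A)
    [Module.Flat R (A ⧸ J)] (hJ : J ≤ maximalIdeal A)
    (h : CInt.IsRegularIdeal (J.map (Ideal.Quotient.mk ((maximalIdeal R).map (algebraMap R A))))) :
    ∃ rs : List A, IsRegular A rs ∧ Ideal.ofList rs = J ∧
      IsRegular (A ⧸ (maximalIdeal R).map (algebraMap R A))
        (rs.map (Ideal.Quotient.mk ((maximalIdeal R).map (algebraMap R A)))) := by
  obtain ⟨rb, hreg, hrb⟩ := h
  let m : Ideal A := (maximalIdeal R).map (algebraMap R A)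
  have hlift : ∀ (l : List (A ⧸ m)), (∀ z ∈ l, z ∈ J.map (Ideal.Quotient.mk m)) →
      ∃ l' : List A, (∀ z ∈ l', z ∈ J) ∧ l'.map (Ideal.Quotient.mk m) = l := by
    intro l
    induction l with
    | nil => exact fun _ => ⟨[], by simp, rfl⟩
    | cons a l ih =>
      intro hl
      obtain ⟨l', h1, h2⟩ := ih fun z hz => hl z (List.mem_cons_of_mem _ hz)
      obtain ⟨a', ha', rfl⟩ :=
        (Ideal.mem_map_iff_of_surjective _ Ideal.Quotient.mk_surjective).1 (hl a List.mem_cons_self)
      exact ⟨a' :: l', by simpa [ha'] using h1, by simp [h2]⟩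
  obtain ⟨rs, hmem, rfl⟩ := hlift rb fun z hz => hrb ▸ Ideal.subset_span hz
  have hsup : Ideal.ofList rs ⊔ m = J ⊔ m := by
    have h1 := congrArg (Ideal.comap (Ideal.Quotient.mk m)) hrb
    rw [← Ideal.map_ofList, Ideal.comap_map_of_surjective _ Ideal.Quotient.mk_surjective,
      Ideal.comap_map_of_surjective _ Ideal.Quotient.mk_surjective, ← RingHom.ker_eq_comap_bot, Ideal.mk_ker] at h1
    exact h1
  have hm : (m • ⊤ : Submodule A A) = m := by rw [smul_eq_mul, Ideal.mul_top]
  have hle : Ideal.ofList rs ≤ J := Ideal.span_le.2 hmem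
  have hflat : Module.Flat R (A ⧸ J) := inferInstance
  have hq : IsWeaklyRegular (A ⧸ (m • ⊤ : Submodule A A)) rs :=
    ((Submodule.quotEquivOfEq _ _ hm).isWeaklyRegular_congr rs).2
      ((isWeaklyRegular_map_algebraMap_iff (A ⧸ m) (A ⧸ m) rs).1 hreg.toIsWeaklyRegular)
  obtain ⟨h1, h2⟩ := EGA4Alg4.FlatReg13.eq_ofList_smul A J hflat rs
    (by rw [smul_eq_mul, Ideal.mul_top]; exact hle) hq (by
      rw [← Submodule.range_mkQ, ← Submodule.map_top, ← Submodule.map_smul'', smul_eq_mul, Ideal.mul_top]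
      have e : ∀ P : Submodule A A, P.map (Submodule.mkQ m) = (P ⊔ m).map (Submodule.mkQ m) := by
        intro P
        rw [Submodule.map_sup, Submodule.mkQ_map_self, sup_bot_eq]
      rw [e, e J, show (Ideal.ofList rs • ⊤ : Submodule A A) = Ideal.ofList rs from
        (smul_eq_mul _ _).trans (Ideal.mul_top _), hsup])
  rw [smul_eq_mul, Ideal.mul_top] at h2
  refine ⟨rs, ⟨h1, ?_⟩, h2.symm, hreg⟩
  intro ht
  rw [smul_eq_mul, Ideal.mul_top] at ht
  exact (maximalIdeal.isMaximal A).ne_top (top_le_iff.1 (ht ▸ hle.trans hJ))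

theorem length_le_dim {A : Type u} [CommRing A] [IsLocalRing A] [IsNoetherianRing A] {rs : List A}
    (h : IsRegular A rs) : (rs.length : WithBot ℕ∞) ≤ ringKrullDim A := by
  have h1 := Module.supportDim_add_length_eq_supportDim_of_isRegular rs h
  rw [Module.supportDim_self_eq_ringKrullDim] at h1
  rw [← h1]
  refine le_add_of_nonneg_left ?_
  have : Nontrivial (A ⧸ (Ideal.ofList rs • ⊤ : Submodule A A)) :=
    Submodule.Quotient.nontrivial_iff.2 h.top_ne_smul.symm
  rcases eq_or_ne (Module.supportDim A (A ⧸ (Ideal.ofList rs • ⊤ : Submodule A A))) ⊥ with hb | hb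
  · exact absurd ((Module.supportDim_eq_bot_iff_subsingleton A _).1 hb) (not_subsingleton _)
  · obtain ⟨a, ha⟩ := WithBot.ne_bot_iff_exists.1 hb
    rw [← ha]
    exact WithBot.coe_le_coe.2 bot_le

theorem isRegularLocalRing_fiberStalk {X S : Scheme.{u}} (f : X ⟶ S) [Smooth f] (x : X) :
    IsRegularLocalRing (CInt.fiberStalk f x) := by
  let p : f.fiber (f x) ⟶ Spec (CommRingCat.of (S.residueField (f x))) := f.fiberToSpecResidueField (f x)
  have : Smooth p :=
    MorphismProperty.pullback_snd (P := @Smooth) f (S.fromSpecResidueField (f x)) ‹Smooth f›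
  exact VarGal.isRegularLocalRing_stalk_of_smooth p (f.asFiber x)

theorem exists_regular_fibre_gens {X Y S : Scheme.{u}} [IsLocallyNoetherian X] (f : X ⟶ S) [Smooth f]
    (i : Y ⟶ X) [IsClosedImmersion i] [Smooth (i ≫ f)] (y : Y) :
    ∃ rs : List (X.presheaf.stalk (i y)), IsRegular (X.presheaf.stalk (i y)) rs ∧
      RingHom.ker (i.stalkMap y).hom = Ideal.ofList rs ∧
      (rs.length : WithBot ℕ∞) ≤ ringKrullDim (CInt.fiberStalk f (i y)) := by
  let R := S.presheaf.stalk (f (i y))
  let A := X.presheaf.stalk (i y)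
  let B := Y.presheaf.stalk y
  let := (f.stalkMap (i y)).hom.toAlgebra
  let := (i.stalkMap y).hom.toAlgebra
  let : Algebra R B := ((i ≫ f).stalkMap y).hom.toAlgebra
  have : IsScalarTower R A B := IsScalarTower.of_algebraMap_eq' (by
    show ((i ≫ f).stalkMap y).hom = _
    rw [Scheme.Hom.stalkMap_comp]; rfl)
  have : IsLocalHom (algebraMap R A) := f.toLRSHom.prop (i y)
  have : Module.Flat R A := Flat.stalkMap f (i y)
  have hB : Module.Flat R B := Flat.stalkMap (i ≫ f) y
  let J : Ideal A := RingHom.ker (i.stalkMap y).hom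
  have hsurj : Function.Surjective (algebraMap A B) := i.stalkMap_surjective y
  let eJ : (A ⧸ J) ≃ₐ[R] B := Ideal.quotientKerAlgEquivOfSurjective (f := IsScalarTower.toAlgHom R A B) hsurj
  have : Module.Flat R (A ⧸ J) := Module.Flat.of_linearEquiv eJ.toLinearEquiv
  let m : Ideal A := (maximalIdeal R).map (algebraMap R A)
  let e₁ : A ⧸ (J ⊔ m) ≃+* B ⧸ (maximalIdeal R).map (algebraMap R B) :=
    (DoubleQuot.quotQuotEquivQuotSup J m).symm.trans (Ideal.quotientEquiv _ _
      (RingHom.quotientKerEquivOfSurjective hsurj) (by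
        rw [IsScalarTower.algebraMap_eq R A B, ← Ideal.map_map, Ideal.map_map (Ideal.Quotient.mk J)]
        exact congrArg (fun φ => Ideal.map φ m) (RingHom.ext fun a => rfl)))
  have := isRegularLocalRing_fiberStalk (i ≫ f) y
  let e₂ : ((A ⧸ m) ⧸ J.map (Ideal.Quotient.mk m)) ≃+* CInt.fiberStalk (i ≫ f) y :=
    ((DoubleQuot.quotQuotEquivQuotSup m J).trans (Ideal.quotEquivOfEq (sup_comm m J))).trans
      (e₁.trans (fiberStalkEquiv (i ≫ f) y))
  have : IsRegularLocalRing ((A ⧸ m) ⧸ J.map (Ideal.Quotient.mk m)) := IsRegularLocalRing.of_ringEquiv e₂.symm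
  have := isRegularLocalRing_fiberStalk f (i y)
  have : IsRegularLocalRing (A ⧸ m) := IsRegularLocalRing.of_ringEquiv (fiberStalkEquiv f (i y)).symm
  have hJ : J ≤ maximalIdeal A := le_maximalIdeal (RingHom.ker_ne_top _)
  obtain ⟨rs, h1, h2, h3⟩ :=
    exists_regular_lift (R := R) J hJ ((S5033.result (A ⧸ m) (J.map (Ideal.Quotient.mk m))).1 inferInstance)
  refine ⟨rs, h1, h2.symm, ?_⟩
  have h4 := length_le_dim h3
  rw [List.length_map] at h4
  exact h4.trans (ringKrullDim_eq_of_ringEquiv (fiberStalkEquiv f (i y))).le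

theorem exists_maximal_generization {X : Scheme.{u}} (y : X) :
    ∃ z : X, z ⤳ y ∧ ∀ z' : X, z' ⤳ z → z' = z := by
  have hgen := (isIrreducible_irreducibleComponent (x := y)).isGenericPoint_genericPoint
    (isClosed_irreducibleComponent (x := y))
  refine ⟨_, hgen.specializes mem_irreducibleComponent, fun a ha => ?_⟩
  have h1 : irreducibleComponent y ⊆ closure {a} := by
    rw [← hgen.def]
    exact closure_minimal (Set.singleton_subset_iff.2 ha.mem_closure) isClosed_closure
  have h2 : a ∈ irreducibleComponent y := by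
    rw [← eq_irreducibleComponent isIrreducible_singleton.closure.isPreirreducible h1]
    exact subset_closure rfl
  exact (ha.antisymm (hgen.specializes h2)).eq

end Groth.Agent.CAlg9.CIT
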