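import Groth.Agent.CAlg9.RegSeq.Minimal
import Groth.Agent.EGA4Alg4.CMMod
import Groth.Agent.S5033
import Mathlib.RingTheory.Ideal.KrullsHeightTheorem

/-!
Regular ideals in regular local rings via dimension.
-/

set_option autoImplicit false
universe u

open IsLocalRing RingTheory.Sequence Groth.Agent.EGA4Alg4 Module

namespace Groth.Agent.CAlg9.CIT

theorem exists_dim_eq (A : Type u) [CommRing A] [IsLocalRing A] [IsNoetherianRing A] :
    ∃ n : ℕ, ringKrullDim A = n := by
  obtain ⟨n, hn⟩ := exists_supportDim_eq (A := A) (M := A)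
  exact ⟨n, by rw [← supportDim_self_eq_ringKrullDim, hn]⟩

/-- a regular local ring has a regular system of parameters -/
theorem exists_parameters (B : Type u) [CommRing B] [IsRegularLocalRing B] (n : ℕ)
    (hn : ringKrullDim B = n) :
    ∃ x : Fin n → B, Ideal.span (Set.range x) = maximalIdeal B ∧ IsRegular B (List.ofFn x) := by
  have hfield : IsRegularLocalRing (B ⧸ maximalIdeal B) := by
    let : Field (B ⧸ maximalIdeal B) := Ideal.Quotient.field _
    infer_instance
  obtain ⟨rs, hrs, hspan⟩ := (S5033.result B (maximalIdeal B)).1 inferInstance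
  have hl : List.ofFn rs.get = rs := List.ofFn_get rs
  have he : Ideal.span (Set.range rs.get) = maximalIdeal B := by
    rw [← RegSeq.ofList_ofFn, hl, hspan]
  have h1 := RegSeq.spanFinrank_eq rs.get (hl.symm ▸ hrs)
  rw [he] at h1
  have h2 : (maximalIdeal B).spanFinrank = n := by
    have := IsRegularLocalRing.spanFinrank_maximalIdeal (R := B)
    rw [hn] at this
    exact_mod_cast this
  obtain rfl : n = rs.length := h2.symm.trans h1
  exact ⟨rs.get, he, hl.symm ▸ hrs⟩

/-- regular local rings are Cohen–Macaulay -/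
theorem isCohenMacaulayModule_self (B : Type u) [CommRing B] [IsRegularLocalRing B] :
    LocCoh.IsCohenMacaulayModule B B := by
  obtain ⟨n, hn⟩ := exists_dim_eq B
  obtain ⟨x, hx, hreg⟩ := exists_parameters B n hn
  have h1 := length_le_depth (A := B) (M := B) hreg.1 fun r hr => by
    obtain ⟨i, rfl⟩ := List.mem_ofFn.1 hr
    exact hx ▸ Ideal.subset_span ⟨i, rfl⟩
  have h2 := depth_le_supportDim (A := B) (M := B)
  obtain ⟨d, hd⟩ := exists_depth_eq (A := B) (M := B)
  rw [LocCoh.IsCohenMacaulayModule, supportDim_self_eq_ringKrullDim, hn, hd]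
  rw [supportDim_self_eq_ringKrullDim, hn, hd] at h2
  rw [List.length_ofFn, hd] at h1
  have k1 : n ≤ d := by exact_mod_cast h1
  have k2 : d ≤ n := by exact_mod_cast h2
  rw [le_antisymm k1 k2]; rfl

/-- dimension of the quotient by an ideal is at least `dim − μ` -/
theorem dim_le_add {B : Type u} [CommRing B] [IsLocalRing B] [IsNoetherianRing B] (I : Ideal B)
    (hI : I ≤ maximalIdeal B) (d e : ℕ) (hd : ringKrullDim (B ⧸ I) = d) (he : ringKrullDim B = e) :
    e ≤ d + I.spanFinrank := by
  have h := ringKrullDim_le_ringKrullDim_quotient_add_spanFinrank I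
    (by rw [IsLocalRing.ringJacobson_eq_maximalIdeal]; exact hI)
  rw [hd, he] at h
  exact_mod_cast h

/-- an ideal of a regular local ring is regular iff its dimension drops by the number of generators -/
theorem isRegularIdeal_iff_dim {B : Type u} [CommRing B] [IsRegularLocalRing B] (I : Ideal B)
    (hI : I ≤ maximalIdeal B) (d e : ℕ) (hd : ringKrullDim (B ⧸ I) = d) (he : ringKrullDim B = e) :
    CInt.IsRegularIdeal I ↔ d + I.spanFinrank = e := by
  classical
  constructor
  · rintro ⟨rs, hrs, rfl⟩
    have h := ringKrullDim_add_length_eq_ringKrullDim_of_isRegular rs hrs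
    rw [hd, he] at h
    have hl : List.ofFn rs.get = rs := List.ofFn_get rs
    have h1 := RegSeq.spanFinrank_eq rs.get (hl.symm ▸ hrs)
    rw [← RegSeq.ofList_ofFn, hl] at h1
    rw [h1]
    exact_mod_cast h
  · intro hde
    obtain ⟨s, hs, hspan⟩ := (IsNoetherian.noetherian I).exists_span_finset_card_eq_spanFinrank
    let gs := s.toList
    have hgs : Ideal.ofList gs = I := by
      rw [Ideal.ofList, ← hspan]
      congr 1
      ext r; simp [gs]
    have hgm : ∀ r ∈ gs, r ∈ maximalIdeal B := fun r hr => hI (hgs ▸ Ideal.subset_span hr)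
    refine ⟨gs, ⟨isWeaklyRegular_of_supportDim (isCohenMacaulayModule_self B) hgm ?_, ?_⟩, hgs⟩
    · have e1 : supportDim B (B ⧸ (Ideal.ofList gs • (⊤ : Submodule B B))) = ringKrullDim (B ⧸ I) := by
        rw [supportDim_eq_of_equiv (Submodule.quotEquivOfEq _ I
          (by rw [hgs, Ideal.smul_eq_mul, Ideal.mul_top]))]
        exact supportDim_quotient_eq_ringKrullDim I
      rw [e1, supportDim_self_eq_ringKrullDim, hd, he, Finset.length_toList, hs]
      exact_mod_cast hde
    · rw [hgs, Ideal.smul_eq_mul, Ideal.mul_top]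
      exact (RegSeq.ne_top_of_le_maximal hI).symm

end Groth.Agent.CAlg9.CIT
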