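import Groth.Agent.CAlg9.CIT.FibreStalks
import Groth.Agent.CAlg1.FlatFibre
import Groth.Agent.FlatMor68.CIFibres
import Groth.Agent.S9169
import Mathlib.AlgebraicGeometry.Morphisms.UniversallyClosed

/-!
The complete intersection locus in the fibres of a flat morphism.
-/

set_option autoImplicit false
universe u

open CategoryTheory AlgebraicGeometry IsLocalRing TensorProduct

namespace Groth.Agent.CAlg9.CIT

section Affine

variable {X S : Scheme.{u}} (f : X ⟶ S) {V : S.Opens} (hV : IsAffineOpen V) {U : X.Opens}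
  (hU : IsAffineOpen U) (e : U ≤ f ⁻¹ᵁ V) (x : X) (hx : x ∈ U)

include hV e in
theorem map_maximalIdeal_stalkMap :
    (maximalIdeal (S.presheaf.stalk (f x))).map (f.stalkMap x).hom =
      ((hU.primeIdealOf ⟨x, hx⟩).asIdeal.comap (f.appLE V U e).hom).map
        ((X.presheaf.germ U x hx).hom.comp (f.appLE V U e).hom) := by
  let := S.presheaf.algebra_section_stalk (⟨f x, e hx⟩ : V)
  have : IsLocalization.AtPrime (S.presheaf.stalk (f x)) (hV.primeIdealOf ⟨f x, e hx⟩).asIdeal :=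
    hV.isLocalization_stalk ⟨f x, e hx⟩
  have h : (hU.primeIdealOf ⟨x, hx⟩).asIdeal.comap (f.appLE V U e).hom = (hV.primeIdealOf ⟨f x, e hx⟩).asIdeal :=
    congr($(IsAffineOpen.comap_primeIdealOf_appLE V hV U hU e hx).1)
  rw [h, ← IsLocalization.AtPrime.map_eq_maximalIdeal (hV.primeIdealOf ⟨f x, e hx⟩).asIdeal (S.presheaf.stalk (f x)),
    Ideal.map_map]
  congr 1
  show (S.presheaf.germ V (f x) (e hx) ≫ f.stalkMap x).hom = (f.appLE V U e ≫ X.presheaf.germ U x hx).hom
  congr 1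
  rw [Scheme.Hom.germ_stalkMap, Scheme.Hom.appLE, Category.assoc, X.presheaf.germ_res]

include hV e in
theorem ci_fiberStalk_affine_iff [LocallyOfFiniteType f] :
    letI := (f.appLE V U e).hom.toAlgebra
    ∀ (p : Ideal Γ(S, V)) [p.IsPrime] (Q : Ideal (p.Fiber Γ(X, U))) [Q.IsPrime],
      p = (hU.primeIdealOf ⟨x, hx⟩).asIdeal.comap (f.appLE V U e).hom →
      Q.comap (Algebra.TensorProduct.includeRight.toRingHom : Γ(X, U) →+* p.Fiber Γ(X, U)) =
        (hU.primeIdealOf ⟨x, hx⟩).asIdeal →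
      (Pi1.IsCompleteIntersection (CInt.fiberStalk f x) ↔
        Pi1.IsCompleteIntersection (Localization.AtPrime Q)) := by
  let := (f.appLE V U e).hom.toAlgebra
  intro p _ Q _ hp hQ
  let r : Ideal Γ(X, U) := Q.comap (Algebra.TensorProduct.includeRight : Γ(X, U) →ₐ[Γ(S, V)] p.Fiber Γ(X, U))
  have hr : r.LiesOver p := ⟨by
    show p = r.comap (algebraMap _ _)
    rw [hp, show r = (hU.primeIdealOf ⟨x, hx⟩).asIdeal from hQ]
    rfl⟩
  let := Localization.AtPrime.algebraOfLiesOver p r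
  let B := Localization.AtPrime r
  let E : Localization.AtPrime Q ≃ₐ[Localization.AtPrime p] B ⧸ p.map (algebraMap Γ(S, V) B) :=
    Ideal.Fiber.localizationAlgEquivQuotient p Q
  let := X.presheaf.algebra_section_stalk (⟨x, hx⟩ : U)
  have hcongr : ∀ (a b : Ideal Γ(X, U)) [a.IsPrime] [b.IsPrime], a = b →
      IsLocalization.AtPrime (X.presheaf.stalk x) a → IsLocalization.AtPrime (X.presheaf.stalk x) b := by
    intro a b _ _ hab h
    subst hab
    exact h
  have hl : IsLocalization.AtPrime (X.presheaf.stalk x) r :=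
    hcongr _ r hQ.symm (hU.isLocalization_stalk ⟨x, hx⟩)
  let σ : B ≃ₐ[Γ(X, U)] X.presheaf.stalk x := IsLocalization.algEquiv r.primeCompl B (X.presheaf.stalk x)
  have hm : (maximalIdeal (S.presheaf.stalk (f x))).map (f.stalkMap x).hom =
      (p.map (algebraMap Γ(S, V) B)).map σ.toRingEquiv.toRingHom := by
    rw [map_maximalIdeal_stalkMap f hV hU e x hx, Ideal.map_map, ← hp]
    congr 1
    ext a
    show X.presheaf.germ U x hx ((f.appLE V U e).hom a) = σ (algebraMap Γ(S, V) B a)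
    rw [IsScalarTower.algebraMap_apply Γ(S, V) Γ(X, U) B, AlgEquiv.commutes]
    rfl
  let τ : Localization.AtPrime Q ≃+* CInt.fiberStalk f x :=
    (E.toRingEquiv.trans (Ideal.quotientEquiv _ _ σ.toRingEquiv hm)).trans (fiberStalkEquiv f x)
  have := fiberStalk_noetherian f x
  have : IsNoetherianRing (Localization.AtPrime Q) := isNoetherianRing_of_ringEquiv _ τ.symm
  exact ⟨isCompleteIntersection_of_ringEquiv τ.symm, isCompleteIntersection_of_ringEquiv τ⟩

include hV e in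
theorem ci_fiberStalk_iff_syntomic [Flat f] [LocallyOfFinitePresentation f] :
    letI := (f.appLE V U e).hom.toAlgebra
    Pi1.IsCompleteIntersection (CInt.fiberStalk f x) ↔
      ∃ g : Γ(X, U), g ∉ (hU.primeIdealOf ⟨x, hx⟩).asIdeal ∧
        Synt.IsSyntomic Γ(S, V) (Localization.Away g) := by
  let := (f.appLE V U e).hom.toAlgebra
  have : Module.Flat Γ(S, V) Γ(X, U) :=
    HasRingHomProperty.appLE @Flat f inferInstance ⟨V, hV⟩ ⟨U, hU⟩ e
  have : Algebra.FinitePresentation Γ(S, V) Γ(X, U) :=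
    HasRingHomProperty.appLE @LocallyOfFinitePresentation f inferInstance ⟨V, hV⟩ ⟨U, hU⟩ e
  let q := (hU.primeIdealOf ⟨x, hx⟩).asIdeal
  let p := q.under Γ(S, V)
  obtain ⟨Q, hQp, hQ⟩ := CAlg1.exists_fibre_prime (R := Γ(S, V)) q
  have h := S9169.result Γ(S, V) Γ(X, U) p q Q hQ
  rw [ci_fiberStalk_affine_iff f hV hU e x hx p Q rfl hQ, h.2]
  have : Algebra.EssFiniteType (p.Fiber Γ(X, U)) (Localization.AtPrime Q) :=
    Algebra.EssFiniteType.of_isLocalization _ Q.primeCompl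
  have : Algebra.EssFiniteType p.ResidueField (Localization.AtPrime Q) :=
    Algebra.EssFiniteType.comp p.ResidueField (p.Fiber Γ(X, U)) _
  rw [← FlatMor68.CIFibres.isCIOver_iff_ci p.ResidueField (Localization.AtPrime Q)]
  refine ⟨fun hci => ⟨1, (Ideal.ne_top_iff_one q).1 (Ideal.IsPrime.ne_top inferInstance), ?_, ?_, hci⟩,
    fun ⟨_, _, _, _, hci⟩ => hci⟩
  · exact Algebra.FinitePresentation.equiv
      ((IsLocalization.atOne Γ(X, U) (Localization.Away (1 : Γ(X, U)))).restrictScalars Γ(S, V))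
  · exact Module.Flat.trans Γ(S, V) Γ(X, U) _

theorem mem_basicOpen_iff {X : Scheme.{u}} {U : X.Opens} (hU : IsAffineOpen U) (g : Γ(X, U)) (x : X)
    (hx : x ∈ U) : x ∈ X.basicOpen g ↔ g ∉ (hU.primeIdealOf ⟨x, hx⟩).asIdeal := by
  let := X.presheaf.algebra_section_stalk (⟨x, hx⟩ : U)
  have : IsLocalization.AtPrime (X.presheaf.stalk x) (hU.primeIdealOf ⟨x, hx⟩).asIdeal :=
    hU.isLocalization_stalk ⟨x, hx⟩
  rw [X.mem_basicOpen g x hx]
  exact IsLocalization.AtPrime.isUnit_to_map_iff (X.presheaf.stalk x) (hU.primeIdealOf ⟨x, hx⟩).asIdeal g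

end Affine

theorem isOpen_ci_locus {X S : Scheme.{u}} (f : X ⟶ S) [Flat f] [LocallyOfFinitePresentation f] :
    IsOpen {x : X | Pi1.IsCompleteIntersection (CInt.fiberStalk f x)} := by
  refine isOpen_iff_forall_mem_open.2 fun x hx => ?_
  obtain ⟨V, hV, hxV, -⟩ := exists_isAffineOpen_mem_and_subset (TopologicalSpace.Opens.mem_top (f x))
  obtain ⟨U, hU, hxU, hUV⟩ := exists_isAffineOpen_mem_and_subset (U := f ⁻¹ᵁ V) (x := x) hxV
  obtain ⟨g, hg, hs⟩ := (ci_fiberStalk_iff_syntomic f hV hU hUV x hxU).1 hx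
  refine ⟨X.basicOpen g, fun y hy => ?_, (X.basicOpen g).2, ?_⟩
  · have hyU : y ∈ U := X.basicOpen_le g hy
    refine (ci_fiberStalk_iff_syntomic f hV hU hUV y hyU).2 ⟨g, ?_, hs⟩
    exact (mem_basicOpen_iff hU g y hyU).1 hy
  · exact (mem_basicOpen_iff hU g x hxU).2 hg

end Groth.Agent.CAlg9.CIT
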