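import Groth.Agent.CAlg9.CIT.Completion
import Mathlib.RingTheory.RegularLocalRing.Defs
import Mathlib.RingTheory.Spectrum.Prime.Topology

/-!
Openness of the complete intersection locus.
-/

set_option autoImplicit false
universe u

open IsLocalRing RingTheory.Sequence

namespace Groth.Agent.CAlg9.CIT

variable {B : Type u} [CommRing B]

theorem isWeaklyRegular_iff_elem {S : Type u} [CommRing S] (rs : List S) :
    IsWeaklyRegular S rs ↔ ∀ (i : Fin rs.length) (x : S),
      rs[i] * x ∈ Ideal.ofList (rs.take i) → x ∈ Ideal.ofList (rs.take i) := by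
  have hJ : ∀ J : Ideal S, (J • ⊤ : Submodule S S) = J := fun J => by rw [Ideal.smul_eq_mul, Ideal.mul_top]
  rw [isWeaklyRegular_iff_Fin]
  refine forall_congr' fun i => ?_
  rw [isSMulRegular_iff_right_eq_zero_of_smul]
  constructor
  · intro h x hx
    have := h (Submodule.Quotient.mk x) (by
      rw [← Submodule.Quotient.mk_smul, Submodule.Quotient.mk_eq_zero, hJ]; exact hx)
    rwa [Submodule.Quotient.mk_eq_zero, hJ] at this
  · intro h y hy
    obtain ⟨x, rfl⟩ := Submodule.Quotient.mk_surjective _ y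
    rw [← Submodule.Quotient.mk_smul, Submodule.Quotient.mk_eq_zero, hJ] at hy
    rw [Submodule.Quotient.mk_eq_zero, hJ]
    exact h x hy

theorem algebraMap_mem_map_iff (P : Ideal B) [P.IsPrime] (J : Ideal B) (x : B) :
    algebraMap B (Localization.AtPrime P) x ∈ J.map (algebraMap B (Localization.AtPrime P)) ↔
      ∃ t ∉ P, t * x ∈ J := by
  rw [IsLocalization.algebraMap_mem_map_algebraMap_iff P.primeCompl]
  rfl

/-- regular sequences at a prime spread to a neighbourhood -/
theorem exists_spread_regular [IsNoetherianRing B] (q : Ideal B) [q.IsPrime] (gs : List B)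
    (h : IsWeaklyRegular (Localization.AtPrime q) (gs.map (algebraMap B (Localization.AtPrime q)))) :
    ∃ s ∉ q, ∀ (P : Ideal B) [P.IsPrime], s ∉ P →
      IsWeaklyRegular (Localization.AtPrime P) (gs.map (algebraMap B (Localization.AtPrime P))) := by
  classical
  rw [isWeaklyRegular_iff_elem] at h
  have hK : ∀ i : Fin gs.length, ∃ s ∉ q, ∀ x : B, gs[i] * x ∈ Ideal.ofList (gs.take i) →
      s * x ∈ Ideal.ofList (gs.take i) := fun i => by
    let K : Ideal B := Submodule.comap (LinearMap.mulLeft B gs[i]) (Ideal.ofList (gs.take i))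
    obtain ⟨G, hG⟩ := IsNoetherian.noetherian K
    have hG' : ∀ x ∈ G, ∃ t ∉ q, t * x ∈ Ideal.ofList (gs.take i) := fun x hx => by
      rw [← algebraMap_mem_map_iff, Ideal.map_ofList, List.map_take]
      refine h ⟨i, by simp⟩ _ ?_
      have hxK : gs[i] * x ∈ Ideal.ofList (gs.take i) :=
        show x ∈ K from hG ▸ Submodule.subset_span hx
      have := Ideal.mem_map_of_mem (algebraMap B (Localization.AtPrime q)) hxK
      rw [Ideal.map_ofList, List.map_take, map_mul] at this
      simpa using this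
    choose t ht htx using hG'
    refine ⟨∏ x : G, t x.1 x.2, fun hmem => ?_, fun x hx => ?_⟩
    · obtain ⟨x, -, hx⟩ := Ideal.IsPrime.prod_mem_iff.1 hmem
      exact ht x.1 x.2 hx
    · have hxK : x ∈ Submodule.span B (G : Set B) := by rw [hG]; exact hx
      induction hxK using Submodule.span_induction with
      | mem y hy =>
        rw [← Finset.mul_prod_erase _ _ (Finset.mem_univ (⟨y, hy⟩ : G)),
          mul_comm (t y hy), mul_assoc]
        exact Ideal.mul_mem_left _ _ (htx y hy)
      | zero => rw [mul_zero]; exact zero_mem _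
      | add a b ha hb iha ihb =>
        have ha' : gs[i] * a ∈ Ideal.ofList (gs.take i) :=
          show a ∈ K from hG ▸ ha
        have hb' : gs[i] * b ∈ Ideal.ofList (gs.take i) :=
          show b ∈ K from hG ▸ hb
        rw [mul_add]; exact add_mem (iha ha') (ihb hb')
      | smul c a ha iha =>
        have ha' : gs[i] * a ∈ Ideal.ofList (gs.take i) :=
          show a ∈ K from hG ▸ ha
        rw [smul_eq_mul, mul_left_comm]; exact Ideal.mul_mem_left _ _ (iha ha')
  choose s hs hsx using hK
  refine ⟨∏ i, s i, fun hmem => ?_, fun P _ hP => ?_⟩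
  · obtain ⟨i, -, hi⟩ := Ideal.IsPrime.prod_mem_iff.1 hmem
    exact hs i hi
  · rw [isWeaklyRegular_iff_elem]
    intro i' y hy
    let i : Fin gs.length := ⟨i', by simpa using i'.2⟩
    have hsP : s i ∉ P := fun hm => hP (Ideal.mem_of_dvd P (Finset.dvd_prod_of_mem s (Finset.mem_univ i)) hm)
    obtain ⟨⟨x, u⟩, hxu⟩ := IsLocalization.surj P.primeCompl y
    rw [← Ideal.unit_mul_mem_iff_mem _ (IsLocalization.map_units _ u), mul_comm, hxu, ← List.map_take,
      ← Ideal.map_ofList, algebraMap_mem_map_iff]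
    have h2 : algebraMap B (Localization.AtPrime P) (gs[i] * x) ∈
        (Ideal.ofList (gs.take i)).map (algebraMap B (Localization.AtPrime P)) := by
      rw [Ideal.map_ofList, List.map_take, map_mul, ← hxu, ← mul_assoc]
      refine Ideal.mul_mem_right _ _ ?_
      simpa [i] using hy
    rw [algebraMap_mem_map_iff] at h2
    obtain ⟨t, ht, htx⟩ := h2
    refine ⟨s i * t, fun hm => (‹P.IsPrime›.mem_or_mem hm).elim hsP ht, ?_⟩
    rw [mul_assoc]
    refine hsx i (t * x) ?_
    rwa [mul_left_comm]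

end Groth.Agent.CAlg9.CIT

namespace Groth.Agent.CAlg9.CIT

variable {B : Type u} [CommRing B]

/-- CI at a point of `B/I` in terms of the ideal at the corresponding prime of `B`. -/
theorem ci_quot_loc_iff [IsRegularRing B] (I : Ideal B) (p : Ideal (B ⧸ I)) [p.IsPrime] (q : Ideal B)
    [q.IsPrime] (hq : q = p.comap (Ideal.Quotient.mk I)) :
    Pi1.IsCompleteIntersection (Localization.AtPrime p) ↔
      CInt.IsRegularIdeal (I.map (algebraMap B (Localization.AtPrime q))) := by
  let f := Localization.localRingHom q p (Ideal.Quotient.mk I) hq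
  have hf : Function.Surjective f := fun y => by
    obtain ⟨a, ⟨t, ht⟩, rfl⟩ := IsLocalization.exists_mk'_eq p.primeCompl y
    obtain ⟨a, rfl⟩ := Ideal.Quotient.mk_surjective a
    obtain ⟨t, rfl⟩ := Ideal.Quotient.mk_surjective t
    exact ⟨IsLocalization.mk' _ a (⟨t, fun hm => ht (by rw [hq] at hm; exact hm)⟩ : q.primeCompl),
      Localization.localRingHom_mk' q p (Ideal.Quotient.mk I) hq a _⟩
  rw [isCompleteIntersection_iff_isRegularIdeal f hf]
  suffices RingHom.ker f = I.map (algebraMap B (Localization.AtPrime q)) by rw [this]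
  refine le_antisymm (fun x hx => ?_) (Ideal.map_le_iff_le_comap.2 fun a ha => ?_)
  · obtain ⟨⟨a, u⟩, hau⟩ := IsLocalization.surj q.primeCompl x
    rw [← Ideal.unit_mul_mem_iff_mem _ (IsLocalization.map_units _ u), mul_comm, hau, algebraMap_mem_map_iff]
    have h1 := congrArg f hau
    rw [map_mul, RingHom.mem_ker.1 hx, zero_mul, Localization.localRingHom_to_map] at h1
    obtain ⟨⟨t, ht⟩, htm⟩ := (IsLocalization.map_eq_zero_iff p.primeCompl _ _).1 h1.symm
    obtain ⟨t, rfl⟩ := Ideal.Quotient.mk_surjective t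
    refine ⟨t, fun hm => ht (by rw [hq] at hm; exact hm), ?_⟩
    rwa [← map_mul, Ideal.Quotient.eq_zero_iff_mem] at htm
  · rw [Ideal.mem_comap, RingHom.mem_ker, Localization.localRingHom_to_map,
      Ideal.Quotient.eq_zero_iff_mem.2 ha, map_zero]

/-- regular ideals at a prime spread out -/
theorem exists_spread_ideal [IsNoetherianRing B] (I : Ideal B) (q : Ideal B) [q.IsPrime]
    (h : CInt.IsRegularIdeal (I.map (algebraMap B (Localization.AtPrime q)))) :
    ∃ s ∉ q, ∀ (P : Ideal B) [P.IsPrime], s ∉ P → I ≤ P →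
      CInt.IsRegularIdeal (I.map (algebraMap B (Localization.AtPrime P))) := by
  classical
  obtain ⟨rs, hrs, hspan⟩ := h
  have hl : ∀ r : Localization.AtPrime q, ∃ (b : B) (u : q.primeCompl),
      r ∈ I.map (algebraMap B (Localization.AtPrime q)) → b ∈ I ∧ r * algebraMap B _ u = algebraMap B _ b := fun r => by
    by_cases hr : r ∈ I.map (algebraMap B (Localization.AtPrime q))
    · obtain ⟨⟨⟨b, hb⟩, u⟩, hbu⟩ := (IsLocalization.mem_map_algebraMap_iff q.primeCompl _).1 hr
      exact ⟨b, u, fun _ => ⟨hb, hbu⟩⟩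
    · exact ⟨0, 1, fun h => absurd h hr⟩
  choose g u hgu using hl
  have hrI : ∀ r ∈ rs, r ∈ I.map (algebraMap B (Localization.AtPrime q)) := fun r hr => hspan ▸ Ideal.subset_span hr
  let gs := rs.map g
  have hgI : Ideal.ofList gs ≤ I := Ideal.span_le.2 fun b hb => by
    obtain ⟨r, hr, rfl⟩ := List.mem_map.1 hb
    exact (hgu r (hrI r hr)).1
  let a : Fin rs.length → Localization.AtPrime q := rs.get
  let b : Fin rs.length → Localization.AtPrime q := fun i => algebraMap B _ (g (rs.get i))
  have hl : List.ofFn a = rs := List.ofFn_get rs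
  have hbl : List.ofFn b = gs.map (algebraMap B (Localization.AtPrime q)) := by
    conv_rhs => rw [show gs = rs.map g from rfl, ← hl, List.map_ofFn, List.map_ofFn]
    rfl
  have hab : Ideal.span (Set.range a) = Ideal.span (Set.range b) := by
    refine le_antisymm (Ideal.span_le.2 ?_) (Ideal.span_le.2 ?_)
    · rintro _ ⟨i, rfl⟩
      have h1 := (hgu _ (hrI _ (List.get_mem rs i))).2
      rw [SetLike.mem_coe, ← Ideal.unit_mul_mem_iff_mem _ (IsLocalization.map_units _ (u (rs.get i))), mul_comm, h1]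
      exact Ideal.subset_span ⟨i, rfl⟩
    · rintro _ ⟨i, rfl⟩
      show algebraMap B _ (g (rs.get i)) ∈ _
      rw [← (hgu _ (hrI _ (List.get_mem rs i))).2]
      exact Ideal.mul_mem_right _ _ (Ideal.subset_span ⟨i, rfl⟩)
  have hb : IsRegular (Localization.AtPrime q) (List.ofFn b) := S0611.result a b (hl.symm ▸ hrs) hab
  obtain ⟨s₁, hs₁, hs₁'⟩ := exists_spread_regular q gs (hbl ▸ hb.1)
  -- `gs` generates `I` near `q`
  have hgen : I.map (algebraMap B (Localization.AtPrime q)) ≤
      (Ideal.ofList gs).map (algebraMap B (Localization.AtPrime q)) := by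
    rw [Ideal.map_ofList, ← hbl, RegSeq.ofList_ofFn, ← hab, ← RegSeq.ofList_ofFn, hl, hspan]
  obtain ⟨G, hG⟩ := IsNoetherian.noetherian I
  have hG' : ∀ x ∈ G, ∃ t ∉ q, t * x ∈ Ideal.ofList gs := fun x hx =>
    (algebraMap_mem_map_iff q _ x).1 (hgen (Ideal.mem_map_of_mem _ (hG ▸ Submodule.subset_span hx)))
  choose t ht htx using hG'
  refine ⟨s₁ * ∏ x : G, t x.1 x.2, fun hm => ?_, fun P _ hP hIP => ?_⟩
  · rcases ‹q.IsPrime›.mem_or_mem hm with h | h
    · exact hs₁ h
    · obtain ⟨x, -, hx⟩ := Ideal.IsPrime.prod_mem_iff.1 h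
      exact ht x.1 x.2 hx
  · have heq : Ideal.ofList (gs.map (algebraMap B (Localization.AtPrime P))) =
        I.map (algebraMap B (Localization.AtPrime P)) := by
      rw [← Ideal.map_ofList]
      refine le_antisymm (Ideal.map_mono hgI) ?_
      conv_lhs => rw [← hG, Submodule.span, ← Submodule.span]
      rw [← Ideal.span, Ideal.map_span, Ideal.span_le]
      rintro _ ⟨x, hx, rfl⟩
      refine (algebraMap_mem_map_iff P _ x).2 ⟨t x hx, fun hm => hP ?_, htx x hx⟩
      exact P.mul_mem_left _ (Ideal.mem_of_dvd P (Finset.dvd_prod_of_mem (fun y : G => t y.1 y.2)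
        (Finset.mem_univ ⟨x, hx⟩)) hm)
    refine ⟨_, ⟨hs₁' P fun hm => hP (P.mul_mem_right _ hm), ?_⟩, heq⟩
    rw [heq, Ideal.smul_eq_mul, Ideal.mul_top]
    refine fun e => (maximalIdeal.isMaximal (Localization.AtPrime P)).ne_top (top_le_iff.1 ?_)
    rw [e, ← Localization.AtPrime.map_eq_maximalIdeal]
    exact Ideal.map_mono hIP

theorem isOpen_ciLocus [IsRegularRing B] (I : Ideal B) :
    IsOpen {x : PrimeSpectrum (B ⧸ I) | Pi1.IsCompleteIntersection (Localization.AtPrime x.asIdeal)} := by
  rw [isOpen_iff_forall_mem_open]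
  intro x hx
  let π := Ideal.Quotient.mk I
  have hx' := (ci_quot_loc_iff I x.asIdeal _ rfl).1 hx
  obtain ⟨s, hs, hs'⟩ := exists_spread_ideal I (x.asIdeal.comap π) hx'
  refine ⟨PrimeSpectrum.basicOpen (π s), fun y hy => ?_, PrimeSpectrum.isOpen_basicOpen, hs⟩
  refine (ci_quot_loc_iff I y.asIdeal _ rfl).2 (hs' _ hy fun a ha => ?_)
  rw [Ideal.mem_comap, Ideal.Quotient.eq_zero_iff_mem.2 ha]
  exact zero_mem _

end Groth.Agent.CAlg9.CIT
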