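import Groth.Agent.CAlg9.CIT.Completion
import Groth.Agent.EGA4Alg4.FlatReg
import Groth.Agent.FlatCrit65.Injective
import Groth.Prelude.Def_RegImm
import Groth.Prelude.Def_EGA4b

/-!
Transversally regular sequences and complete intersection fibres.
-/

set_option autoImplicit false
universe u

open IsLocalRing RingTheory.Sequence TensorProduct
open scoped Pointwise

namespace Groth.Agent.CAlg9.CIT

/-- transversally regular sequences stay regular on `M/IM` -/
theorem isWeaklyRegular_fibre {A B : Type u} [CommRing A] [CommRing B] [Algebra A B] (I : Ideal A)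
    (fs : List B) : ∀ (M : Type u) [AddCommGroup M] [Module B M] [Module A M] [IsScalarTower A B M],
      IsWeaklyRegular M fs →
      (∀ i ≤ fs.length, Module.Flat A (M ⧸ (Ideal.ofList (fs.take i) • (⊤ : Submodule B M)))) →
      IsWeaklyRegular (M ⧸ (I.map (algebraMap A B) • (⊤ : Submodule B M))) fs := by
  induction fs with
  | nil => intros; exact IsWeaklyRegular.nil B _
  | cons f fs ih =>
    intro M _ _ _ _ hreg hflat
    obtain ⟨h1, h2⟩ := (isWeaklyRegular_cons_iff _ f fs).1 hreg
    have hflat1 : ∀ i ≤ fs.length,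
        Module.Flat A (QuotSMulTop f M ⧸ (Ideal.ofList (fs.take i) • (⊤ : Submodule B (QuotSMulTop f M)))) := fun i hi => by
      have := hflat (i + 1) (by simpa using hi)
      rw [List.take_succ_cons] at this
      exact EGA4Alg4.FlatReg13.flat_of_linearEquiv
        (Submodule.quotOfListConsSMulTopEquivQuotSMulTopInner M f (fs.take i)).symm
    have : Module.Flat A (QuotSMulTop f M) := by
      have := hflat1 0 (Nat.zero_le _)
      exact EGA4Alg4.FlatReg13.flat_of_linearEquiv (Submodule.quotEquivOfEqBot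
        (Ideal.ofList (fs.take 0) • ⊤ : Submodule B (QuotSMulTop f M))
        (EGA4Alg4.FlatReg13.take_zero_smul_top _)).symm
    refine IsWeaklyRegular.cons ?_
      (((EGA4Alg4.FlatReg13.quotSMulTopComm _ f).isWeaklyRegular_congr fs).2 (ih (QuotSMulTop f M) h2 hflat1))
    let mul : M →ₗ[A] M := (LinearMap.lsmul B M f).restrictScalars A
    let g : M →ₗ[A] QuotSMulTop f M := (f • ⊤ : Submodule B M).mkQ.restrictScalars A
    have hgs : Function.Surjective g := fun q => by
      obtain ⟨m, rfl⟩ := Submodule.Quotient.mk_surjective _ q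
      exact ⟨m, rfl⟩
    have hex : Function.Exact mul g := fun y => by
      change Submodule.Quotient.mk y = 0 ↔ _
      rw [Submodule.Quotient.mk_eq_zero, Submodule.mem_smul_pointwise_iff_exists]
      simp [mul]
    have hinj := LinearMap.lTensor_injective_of_exact_of_flat g hgs mul h1 hex (A ⧸ I)
    rw [isSMulRegular_iff_right_eq_zero_of_smul]
    intro x hx
    obtain ⟨y, rfl⟩ := Submodule.Quotient.mk_surjective _ x
    rw [← Submodule.Quotient.mk_smul, Submodule.Quotient.mk_eq_zero,
      EGA4Alg4.FlatReg13.mem_smul_top_iff, ← FlatCrit65.one_tmul_eq_zero_iff] at hx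
    rw [Submodule.Quotient.mk_eq_zero, EGA4Alg4.FlatReg13.mem_smul_top_iff,
      ← FlatCrit65.one_tmul_eq_zero_iff]
    refine hinj ?_
    rw [map_zero, LinearMap.lTensor_tmul]
    exact hx

theorem smul_top_fibre {C : Type u} [CommRing C] (m : Ideal C) (rs : List C) (y : C) :
    (Ideal.Quotient.mk m y) ∈ Ideal.ofList (rs.map (Ideal.Quotient.mk m)) ↔
      y ∈ Ideal.ofList rs ⊔ m := by
  rw [← Ideal.map_ofList, ← Ideal.mem_comap, Ideal.comap_map_of_surjective _ Ideal.Quotient.mk_surjective,
    ← RingHom.ker_eq_comap_bot, Ideal.mk_ker]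

/-- A flat deformation of a regular fibre: the ideal of `B = C/J` has a transversally regular system of
generators iff `B` is flat with complete intersection closed fibre. -/
theorem transReg_iff (A C B : Type u) [CommRing A] [IsLocalRing A]
    [CommRing C] [IsLocalRing C] [IsNoetherianRing C] [Algebra A C] [IsLocalHom (algebraMap A C)]
    [Module.Flat A C] (hreg : IsRegularLocalRing (EGA4.FibRing A C))
    [CommRing B] [IsLocalRing B] [Algebra C B] [Algebra A B] [IsScalarTower A C B] [IsLocalHom (algebraMap A B)]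
    (hsurj : Function.Surjective (algebraMap C B)) :
    (∃ rs : List C, Ideal.ofList rs = RingHom.ker (algebraMap C B) ∧ RegImm.IsTransRegularSeq A C rs) ↔
      (Module.Flat A B ∧ Pi1.IsCompleteIntersection (EGA4.FibRing A B)) := by
  let J := RingHom.ker (algebraMap C B)
  let m := EGA4.mB A C
  let π := Ideal.Quotient.mk m
  have hmB : m.map (algebraMap C B) = EGA4.mB A B := by
    rw [EGA4.mB, Ideal.map_map, ← IsScalarTower.algebraMap_eq]
  let f₀ : EGA4.FibRing A C →+* EGA4.FibRing A B :=
    Ideal.quotientMap (EGA4.mB A B) (algebraMap C B) (Ideal.map_le_iff_le_comap.1 hmB.le)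
  have hf₀ : Function.Surjective f₀ := Ideal.quotientMap_surjective hsurj
  have hker : RingHom.ker f₀ = J.map π := by
    ext x
    obtain ⟨x, rfl⟩ := Ideal.Quotient.mk_surjective x
    rw [RingHom.mem_ker, Ideal.quotientMap_mk, Ideal.Quotient.eq_zero_iff_mem, ← hmB, ← Ideal.mem_comap,
      Ideal.comap_map_of_surjective _ hsurj, ← RingHom.ker_eq_comap_bot, ← Ideal.mem_comap (f := π),
      Ideal.comap_map_of_surjective _ Ideal.Quotient.mk_surjective, ← RingHom.ker_eq_comap_bot, Ideal.mk_ker,
      sup_comm]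
  rw [isCompleteIntersection_iff_isRegularIdeal f₀ hf₀, hker]
  let eJ : (C ⧸ J) ≃ₗ[A] B := ((Submodule.quotEquivOfEq J (LinearMap.ker (Algebra.linearMap C B)) rfl).trans
    ((Algebra.linearMap C B).quotKerEquivOfSurjective hsurj)).restrictScalars A
  let eM : EGA4.FibRing A C ≃ₗ[C] C ⧸ (m • (⊤ : Submodule C C)) :=
    Submodule.quotEquivOfEq m _ (by rw [Ideal.smul_eq_mul, Ideal.mul_top])
  have htop : ∀ gs : List C, (Ideal.ofList gs • ⊤ : Submodule C C) = Ideal.ofList gs := fun gs => by
    rw [Ideal.smul_eq_mul, Ideal.mul_top]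
  constructor
  · rintro ⟨rs, hrs, hw, hflat⟩
    have hB : Module.Flat A B := by
      have := hflat rs.length le_rfl
      rw [List.take_length, hrs] at this
      exact Module.Flat.of_linearEquiv eJ.symm
    refine ⟨hB, rs.map π, ⟨?_, ?_⟩, by rw [← Ideal.map_ofList, hrs]⟩
    · have h1 := isWeaklyRegular_fibre (maximalIdeal A) rs C hw fun i hi => by
        have := hflat i hi
        exact EGA4Alg4.FlatReg13.flat_of_linearEquiv (Submodule.quotEquivOfEq _ _ (htop (rs.take i)))
      rw [show π = algebraMap C (EGA4.FibRing A C) from rfl, isWeaklyRegular_map_algebraMap_iff]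
      exact (eM.isWeaklyRegular_congr rs).2 h1
    · rw [← Ideal.map_ofList, hrs, Ideal.smul_eq_mul, Ideal.mul_top, ← hker]
      exact (RingHom.ker_ne_top f₀).symm
  · rintro ⟨hB, ss, hss, hssK⟩
    have hl : ∀ s : EGA4.FibRing A C, ∃ c : C, s ∈ J.map π → c ∈ J ∧ π c = s := fun s => by
      by_cases hs : s ∈ J.map π
      · obtain ⟨c, hc⟩ := (Ideal.mem_map_iff_of_surjective π Ideal.Quotient.mk_surjective).1 hs
        exact ⟨c, fun _ => hc⟩
      · exact ⟨0, fun h => absurd h hs⟩
    choose l hl using hl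
    have hsJ : ∀ s ∈ ss, s ∈ J.map π := fun s hs => hssK ▸ Ideal.subset_span hs
    let rs := ss.map l
    have hrs : rs.map π = ss := by
      rw [List.map_map]
      exact (List.map_congr_left fun s hs => (hl s (hsJ s hs)).2).trans (List.map_id _)
    have hle : Ideal.ofList rs ≤ J := Ideal.span_le.2 fun c hc => by
      obtain ⟨s, hs, rfl⟩ := List.mem_map.1 hc
      exact (hl s (hsJ s hs)).1
    have hflat : Module.Flat A (C ⧸ J) := Module.Flat.of_linearEquiv eJ
    have h2 : IsWeaklyRegular (C ⧸ (m • (⊤ : Submodule C C))) rs := by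
      refine (eM.isWeaklyRegular_congr rs).1 ?_
      rw [← isWeaklyRegular_map_algebraMap_iff (EGA4.FibRing A C), Ideal.Quotient.algebraMap_eq, hrs]
      exact hss.1
    have h3 : Ideal.ofList rs • (⊤ : Submodule C (C ⧸ (m • (⊤ : Submodule C C)))) =
        Submodule.map (m • (⊤ : Submodule C C)).mkQ J := by
      rw [← Submodule.range_mkQ (m • (⊤ : Submodule C C)), ← Submodule.map_top, ← Submodule.map_smul'', htop]
      refine le_antisymm (Submodule.map_mono hle) ?_
      rintro _ ⟨y, hy, rfl⟩
      have h4 : π y ∈ Ideal.ofList (rs.map π) := by rw [hrs, hssK]; exact Ideal.mem_map_of_mem π hy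
      rw [smul_top_fibre] at h4
      obtain ⟨a, ha, b, hb, rfl⟩ := Submodule.mem_sup.1 h4
      refine ⟨a, ha, (Submodule.Quotient.eq _).2 ?_⟩
      rw [Ideal.smul_eq_mul, Ideal.mul_top]
      simpa using neg_mem hb
    obtain ⟨hw, hJ⟩ := EGA4Alg4.FlatReg13.eq_ofList_smul C J hflat rs (by rw [htop]; exact hle) h2 h3
    rw [htop] at hJ
    refine ⟨rs, hJ.symm, hw, fun i hi => ?_⟩
    have := (EGA4Alg4.FlatReg13.regular_and_flat rs C h2).2 i hi
    exact EGA4Alg4.FlatReg13.flat_of_linearEquiv (Submodule.quotEquivOfEq _ _ (htop (rs.take i)).symm)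

end Groth.Agent.CAlg9.CIT
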